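import Cfsg.Agent.Lib.Golay.Std

/-!
Small translation lemmas between sets of points and masks.
-/

set_option autoImplicit false

namespace Cfsg.Agent.Golay

open Cfsg Cfsg.Agent.PG Equiv
open scoped Pointwise

theorem card_inter_iff (a m c : ℕ) :
    (ofMask a ∩ ofMask m).card = c ↔ Nat.beq (pc (Nat.land a m)) c = true := by
  rw [← ofMask_and, card_ofMask, Nat.beq_eq]; rfl

theorem card_iff (m c : ℕ) : (ofMask m).card = c ↔ Nat.beq (pc m) c = true := by
  rw [card_ofMask, Nat.beq_eq]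

theorem pt_mem_iff {i : ℕ} (hi : i < 24) (m : ℕ) : pt i ∈ ofMask m ↔ bit m i = true := by
  rw [pt_mem_ofMask hi, bit_eq]

theorem pt_notMem_iff {i : ℕ} (hi : i < 24) (m : ℕ) :
    pt i ∉ ofMask m ↔ Bool.not (bit m i) = true := by
  rw [pt_mem_iff hi]; simp

theorem disjoint_iff' (a b : ℕ) :
    Disjoint (ofMask a) (ofMask b) ↔ Nat.beq (pc (Nat.land a b)) 0 = true := by
  rw [disjoint_ofMask, Nat.beq_eq]; rfl

theorem conj_mem_M24 {k g : Perm GolayPt} (hk : k ∈ M24) (hg : g ∈ M24) : k * g * k⁻¹ ∈ M24 :=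
  M24.mul_mem (M24.mul_mem hk hg) (M24.inv_mem hk)

theorem conj_apply {k g : Perm GolayPt} {p q : GolayPt} (h : g p = q) :
    (k * g * k⁻¹) (k p) = k q := by simp [h]

theorem SB.fix_pt {g : Perm GolayPt} {i : ℕ} (hi : i < 24) (h : g • SB.X i = SB.X i) :
    g (pt i) = pt i := by
  rwa [SB.smul_X_pt _ hi, SB.X_pt _ hi, Finset.singleton_inj] at h

theorem SB.conj_pt {k g : Perm GolayPt} {i : ℕ} (hi : i < 24) (h : g • SB.X i = SB.X i) :
    (k * g * k⁻¹) (k (pt i)) = k (pt i) := conj_apply (SB.fix_pt hi h)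

theorem smul_eq_smul_iff' {k : Perm GolayPt} {s t : Finset GolayPt} : k • s = k • t ↔ s = t :=
  smul_left_cancel_iff k

end Cfsg.Agent.Golay
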