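import Cfsg.Agent.Lib.Golay.Sextet
import Cfsg.Agent.Lib.Golay.Util2

/-! Cosets of the binary Golay code and the punctured code. -/

set_option maxRecDepth 100000

namespace Cfsg.Agent.Golay

open Cfsg.Agent.PG
open scoped symmDiff

theorem norm_eq_card (v : GolayPt → ZMod 2) : hammingNorm v = (support₂ v).card := by
  unfold hammingNorm support₂; congr

theorem support_sub (w v : GolayPt → ZMod 2) : support₂ (w - v) = support₂ w ∆ support₂ v := by
  have : ∀ a b : ZMod 2, a - b ≠ 0 ↔ (a ≠ 0 ∧ ¬ b ≠ 0) ∨ (b ≠ 0 ∧ ¬ a ≠ 0) := by decide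
  ext p
  simp only [support₂, Finset.mem_filter, Finset.mem_univ, true_and, Finset.mem_symmDiff,
    Pi.sub_apply]
  exact this _ _

theorem support_inj {v w : GolayPt → ZMod 2} (h : support₂ v = support₂ w) : v = w := by
  rw [← wd_support v, h, wd_support]

theorem exists_leader (s : Finset GolayPt) : ∃ t : Finset GolayPt, t.card ≤ 4 ∧ Cw (s ∆ t) := by
  induction h : s.card using Nat.strong_induction_on generalizing s with
  | _ n ih =>
    by_cases h4 : s.card ≤ 4
    · exact ⟨s, h4, by rw [symmDiff_self]; exact cw_empty⟩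
    obtain ⟨u, hu, huc⟩ := Finset.exists_subset_card_eq (s := s) (n := 5) (by omega)
    obtain ⟨o, ho, huo⟩ := exists_octad_of_card_le (s := u) (by omega)
    have h1 := card_symmDiff_add s o
    have h2 : 5 ≤ (s ∩ o).card := huc ▸ Finset.card_le_card (Finset.subset_inter hu huo)
    have h3 := ho.2
    obtain ⟨t, ht, hc⟩ := ih (s ∆ o).card (by omega) (s ∆ o) rfl
    refine ⟨t, ht, ?_⟩
    have := hc.symmDiff ho.1
    rwa [symmDiff_right_comm, symmDiff_symmDiff_cancel_right] at this

theorem cw_symm_of {s t u : Finset GolayPt} (ht : Cw (s ∆ t)) (hu : Cw (s ∆ u)) : Cw (t ∆ u) := by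
  have := ht.symmDiff hu
  rwa [symmDiff_symmDiff_symmDiff_comm, symmDiff_self, bot_symmDiff] at this

theorem eq_of_cw_small {t u : Finset GolayPt} (h : Cw (t ∆ u)) (hc : t.card + u.card < 8) :
    t = u := by
  have h1 := card_symmDiff_add t u
  have := h.card'
  have h0 : (t ∆ u).card = 0 := by omega
  rw [Finset.card_eq_zero] at h0
  exact symmDiff_eq_bot.1 h0

theorem leaders_four {t : Finset GolayPt} (ht : t.card = 4) (u : Finset GolayPt) :
    (u.card ≤ 4 ∧ Cw (t ∆ u)) ↔ u ∈ sextetOf t := by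
  rw [mem_sextetOf]
  constructor
  · rintro ⟨h1, h2⟩
    by_cases e : u = t
    · exact Or.inl e
    right
    have h3 := card_symmDiff_add t u
    have h4 := h2.card'
    have h5 : (t ∆ u).card ≠ 0 := by
      rw [Finset.card_ne_zero, Finset.nonempty_iff_ne_empty]
      exact fun h => e (symmDiff_eq_bot.1 h).symm
    have h6 : (t ∩ u).card = 0 := by omega
    rw [Finset.card_eq_zero] at h6
    have hd : ∀ p, p ∈ t → p ∉ u := fun p hp hq =>
      Finset.notMem_empty p (h6 ▸ Finset.mem_inter.2 ⟨hp, hq⟩)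
    refine ⟨t ∆ u, ⟨h2, by omega⟩, fun p hp => Finset.mem_symmDiff.2 (Or.inl ⟨hp, hd p hp⟩), ?_⟩
    ext p
    have := hd p
    simp only [Finset.mem_sdiff, Finset.mem_symmDiff]
    tauto
  · rintro (rfl | ⟨o, ho, hto, rfl⟩)
    · exact ⟨ht.le, by rw [symmDiff_self]; exact cw_empty⟩
    · refine ⟨by rw [Finset.card_sdiff_of_subset hto, ho.2, ht], ?_⟩
      have : t ∆ (o \ t) = o := by
        ext p
        have := @hto p
        simp only [Finset.mem_sdiff, Finset.mem_symmDiff]
        tauto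
      rw [this]; exact ho.1

theorem ncard_words (P : Finset GolayPt → Prop) :
    {v : GolayPt → ZMod 2 | P (support₂ v)}.ncard = {s | P s}.ncard := by
  rw [← Set.InjOn.ncard_image (f := support₂) fun _ _ _ _ h => support_inj h]
  congr 1
  ext s
  constructor
  · rintro ⟨v, hv, rfl⟩; exact hv
  · intro hs; exact ⟨wd s, by rw [Set.mem_ofPred_eq, support_wd]; exact hs, support_wd s⟩

theorem coset_leaders (w : GolayPt → ZMod 2) :
    ({v : GolayPt → ZMod 2 | hammingNorm v ≤ 4 ∧ w - v ∈ golayCode}.ncard = 1 ∧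
      ∃ v : GolayPt → ZMod 2, hammingNorm v ≤ 3 ∧ w - v ∈ golayCode) ∨
    ({v : GolayPt → ZMod 2 | hammingNorm v ≤ 4 ∧ w - v ∈ golayCode}.ncard = 6 ∧
      ∀ v : GolayPt → ZMod 2, w - v ∈ golayCode → hammingNorm v ≤ 4 → hammingNorm v = 4) := by
  simp only [norm_eq_card, ← cw_support, support_sub]
  rw [ncard_words fun u => u.card ≤ 4 ∧ Cw (support₂ w ∆ u)]
  generalize support₂ w = s
  obtain ⟨t, ht, hc⟩ := exists_leader s
  by_cases h3 : t.card ≤ 3
  · left
    refine ⟨?_, wd t, by rw [support_wd]; exact ⟨h3, hc⟩⟩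
    rw [Set.ncard_eq_one]
    refine ⟨t, Set.eq_singleton_iff_unique_mem.2 ⟨⟨ht, hc⟩, fun u hu => ?_⟩⟩
    exact eq_of_cw_small (cw_symm_of hu.2 hc) (by have := hu.1; omega)
  · right
    have h4 : t.card = 4 := by omega
    have key : ∀ u : Finset GolayPt, (u.card ≤ 4 ∧ Cw (s ∆ u)) ↔ u ∈ sextetOf t := by
      intro u
      rw [← leaders_four h4]
      refine and_congr_right fun _ => ⟨cw_symm_of hc, fun h => ?_⟩
      have := hc.symmDiff h
      rwa [symmDiff_assoc, symmDiff_symmDiff_cancel_left] at this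
    refine ⟨?_, fun v h1 h2 => (sextetOf_mem h4).2.1 _ ((key _).1 ⟨h2, h1⟩)⟩
    rw [← card_sextetOf h4, ← Set.ncard_coe_finset]
    congr 1
    ext u
    exact key u

/-! ### The punctured code -/

/-- deleting the extra coordinate from the word with support `s` -/
def res23 (s : Finset GolayPt) : ZMod 23 → ZMod 2 := fun x => wd s (some x)

theorem norm_res23 (s : Finset GolayPt) : hammingNorm (res23 s) = (s.erase none).card := by
  unfold hammingNorm
  apply Finset.card_bij (fun x _ => some x)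
  · intro x hx
    rw [Finset.mem_erase]
    refine ⟨by simp, ?_⟩
    by_contra h
    exact (Finset.mem_filter.1 hx).2 (if_neg h)
  · intro x _ y _ h
    exact Option.some.inj h
  · intro p hp
    rw [Finset.mem_erase] at hp
    obtain ⟨x, rfl⟩ := Option.ne_none_iff_exists'.1 hp.1
    refine ⟨x, ?_, rfl⟩
    refine Finset.mem_filter.2 ⟨Finset.mem_univ _, ?_⟩
    show (if some x ∈ s then (1 : ZMod 2) else 0) ≠ 0
    rw [if_pos hp.2]
    decide

theorem res23_sub (s t : Finset GolayPt) : -res23 s + res23 t = res23 (s ∆ t) := by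
  funext x
  have : ∀ a b : ZMod 2, -a + b = a + b := by decide
  simp only [res23, Pi.neg_apply, wd_symmDiff, Pi.add_apply, this]

theorem dist_res23 (s t : Finset GolayPt) :
    hammingDist (res23 s) (res23 t) = ((s ∆ t).erase none).card := by
  rw [hammingDist_eq_hammingNorm, res23_sub, norm_res23]

theorem card_erase_none (s : Finset GolayPt) :
    (s.erase none).card = s.card ∨ (s.erase none).card + 1 = s.card := by
  by_cases h : none ∈ s
  · exact Or.inr (Finset.card_erase_add_one h)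
  · rw [Finset.erase_eq_of_notMem h]; exact Or.inl rfl

theorem mem_punct {u : ZMod 23 → ZMod 2} :
    (∃ w ∈ golayCode, ∀ x : ZMod 23, u x = w (some x)) ↔ ∃ s, Cw s ∧ res23 s = u := by
  constructor
  · rintro ⟨w, hw, h⟩
    refine ⟨support₂ w, cw_support.2 hw, funext fun x => ?_⟩
    rw [h x, res23, wd_support]
  · rintro ⟨s, hs, rfl⟩
    exact ⟨wd s, (cw_iff s).1 hs, fun _ => rfl⟩

theorem res23_inj {s t : Finset GolayPt} (hs : Cw s) (ht : Cw t)
    (h : hammingDist (res23 s) (res23 t) < 7) : s = t := by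
  rw [dist_res23] at h
  have := card_erase_none (s ∆ t)
  exact hs.eq_of_small ht (by omega)

theorem ncard_punct (P : (ZMod 23 → ZMod 2) → Prop) :
    {u : ZMod 23 → ZMod 2 | (∃ w ∈ golayCode, ∀ x : ZMod 23, u x = w (some x)) ∧ P u}.ncard =
      {s | Cw s ∧ P (res23 s)}.ncard := by
  rw [← Set.InjOn.ncard_image (f := res23) (s := {s | Cw s ∧ P (res23 s)})
    fun _ hs _ ht h => res23_inj hs.1 ht.1 (by rw [h, hammingDist_self]; omega)]
  congr 1
  ext u
  simp only [mem_punct, Set.mem_ofPred_eq, Set.mem_image]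
  constructor
  · rintro ⟨⟨s, hs, rfl⟩, h⟩; exact ⟨s, ⟨hs, h⟩, rfl⟩
  · rintro ⟨s, ⟨hs, h⟩, rfl⟩; exact ⟨⟨s, hs, rfl⟩, h⟩

theorem erase_ofMask (m : ℕ) : (ofMask m).erase none = ofMask (m &&& 0x7fffff) := by
  rw [ofMask_and]
  have : ofMask 0x7fffff = Finset.univ.erase none := by decide
  rw [this]
  ext p
  simp [and_comm]

theorem ncard_punct_wt (k : ℕ) :
    {u : ZMod 23 → ZMod 2 | (∃ w ∈ golayCode, ∀ x : ZMod 23, u x = w (some x)) ∧
      hammingNorm u = k}.ncard =
      cntN 4096 fun m => force (enc m) fun x => Nat.beq (pc (Nat.land x 0x7fffff)) k := by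
  rw [ncard_punct]
  apply ncard_cw
  intro m _
  rw [norm_res23, erase_ofMask, card_ofMask, Nat.beq_eq]
  rfl

theorem exists_res23 (u : ZMod 23 → ZMod 2) : ∃ s, res23 s = u ∧ s.card % 2 = 1 := by
  have e : ∀ s : Finset GolayPt, res23 (s ∆ {none}) = res23 s := by
    intro s; funext x; simp [res23, wd, Finset.mem_symmDiff]
  let w : GolayPt → ZMod 2 := fun p => p.elim 0 u
  have hw : res23 (support₂ w) = u := by funext x; rw [res23, wd_support]; rfl
  by_cases h : (support₂ w).card % 2 = 1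
  · exact ⟨_, hw, h⟩
  · refine ⟨support₂ w ∆ {none}, (e _).trans hw, ?_⟩
    have := card_symmDiff_add (support₂ w) {none}
    rw [Finset.card_singleton] at this
    omega

theorem perfect23 (u : ZMod 23 → ZMod 2) : ∃! c : ZMod 23 → ZMod 2,
    (∃ w ∈ golayCode, ∀ x : ZMod 23, c x = w (some x)) ∧ hammingDist u c ≤ 3 := by
  obtain ⟨s, rfl, hs⟩ := exists_res23 u
  obtain ⟨t, ht, hc⟩ := exists_leader s
  have h1 := card_symmDiff_add s t
  have h2 := hc.card'
  have hd : hammingDist (res23 s) (res23 (s ∆ t)) ≤ 3 := by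
    rw [dist_res23, symmDiff_symmDiff_cancel_left]
    have := card_erase_none t
    omega
  refine ⟨res23 (s ∆ t), ⟨mem_punct.2 ⟨_, hc, rfl⟩, hd⟩, ?_⟩
  rintro c ⟨h3, h4⟩
  obtain ⟨r, hr, rfl⟩ := mem_punct.1 h3
  have := hammingDist_triangle_left (res23 r) (res23 (s ∆ t)) (res23 s)
  rw [res23_inj hr hc (by omega)]

end Cfsg.Agent.Golay
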