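import Cfsg.Agent.Lib.Golay.Part
import Cfsg.Agent.Lib.PG.Hom

/-!
Orders of stabilisers in `M24`; the pointwise stabiliser of an octad.
-/

set_option autoImplicit false
set_option maxRecDepth 100000

namespace Cfsg.Agent.Golay

open Cfsg Cfsg.Agent.PG Equiv Cfsg.Agent.Golay.SB MulAction
open scoped Pointwise

theorem mem_stab_M24 {Y : Type*} [MulAction (Perm GolayPt) Y] {g : M24} {y : Y} :
    g ∈ stabilizer M24 y ↔ (g : Perm GolayPt) • y = y := Iff.rfl

theorem mem_stab_pt {g : M24} {p : GolayPt} :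
    g ∈ stabilizer M24 p ↔ (g : Perm GolayPt) p = p := Iff.rfl

theorem mem_iff_of_smul_eq {g : Perm GolayPt} {s : Finset GolayPt} (h : g • s = s) (p : GolayPt) :
    g p ∈ s ↔ p ∈ s := by
  conv_lhs => rw [← h]
  exact apply_mem_smul

theorem smul_eq_of_mem_iff {g : Perm GolayPt} {s : Finset GolayPt} (h : ∀ p, g p ∈ s ↔ p ∈ s) :
    g • s = s := by
  ext p; rw [mem_smul_iff, ← h]; simp

theorem quot_apply {k k' : Perm GolayPt} {a p q : GolayPt} (h : k a = p) (h' : k' a = q) :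
    (k' * k⁻¹) p = q := by rw [Perm.mul_apply, Perm.inv_eq_iff_eq.2 h.symm, h']

theorem quot_smul {Y : Type*} [MulAction (Perm GolayPt) Y] {k k' : Perm GolayPt} {a p q : Y}
    (h : k • a = p) (h' : k' • a = q) : (k' * k⁻¹) • p = q := by
  rw [mul_smul, inv_smul_eq_iff.2 h.symm, h']

theorem quot_mem {k k' : Perm GolayPt} (h : k ∈ M24) (h' : k' ∈ M24) : k' * k⁻¹ ∈ M24 :=
  M24.mul_mem h' (M24.inv_mem h)

theorem card_stab_octad {o : Finset GolayPt} (ho : o ∈ octads) :
    Nat.card (stabilizer M24 o) = 322560 := by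
  have := ncard_mul_card_stab (G := M24) o (O := octads) fun z =>
    ⟨fun hz => (octad_transitive ho hz).elim fun g h => ⟨⟨g, h.1⟩, h.2⟩,
      fun ⟨g, h⟩ => h ▸ (smul_mem_octads g.2).2 ho⟩
  rw [ncard_octads, card_M24] at this
  omega

theorem card_stab_dodecad {d : Finset GolayPt} (hd : d ∈ dodecads) :
    Nat.card (stabilizer M24 d) = 95040 := by
  have := ncard_mul_card_stab (G := M24) d (O := dodecads) fun z =>
    ⟨fun hz => (dodecad_transitive hd hz).elim fun g h => ⟨⟨g, h.1⟩, h.2⟩,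
      fun ⟨g, h⟩ => h ▸ (smul_mem_dodecads g.2).2 hd⟩
  rw [ncard_dodecads, card_M24] at this
  omega

theorem card_stab_small {s : Finset GolayPt} (hs : s.card ≤ 5) :
    Nat.choose 24 s.card * Nat.card (stabilizer M24 s) = 244823040 := by
  have := ncard_mul_card_stab (G := M24) s (O := {t | t.card = s.card}) fun z =>
    ⟨fun hz => (exists_smul_eq_of_card hs hz.symm).elim fun g h => ⟨⟨g, h.1⟩, h.2⟩,
      fun ⟨g, h⟩ => h ▸ Finset.card_smul_finset _ _⟩
  rwa [ncard_card, card_M24] at this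

/-- orbit-stabiliser for a point whose orbit is the finite set `O` -/
theorem card_inf_pt (H : Subgroup M24) (p : GolayPt) (O : Finset GolayPt)
    (h1 : ∀ z ∈ O, ∃ g ∈ H, (g : Perm GolayPt) p = z) (h2 : ∀ g ∈ H, (g : Perm GolayPt) p ∈ O) :
    O.card * Nat.card ↥(H ⊓ stabilizer M24 p) = Nat.card H := by
  rw [← Set.ncard_coe_finset]
  exact ncard_mul_card_inf H p fun z => ⟨h1 z, fun ⟨g, hg, e⟩ => e ▸ h2 g hg⟩

theorem card_stab_pt (p : GolayPt) : Nat.card (stabilizer M24 p) = 10200960 := by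
  have := card_inf_pt ⊤ p Finset.univ (fun z _ => by
    obtain ⟨g, hg, e⟩ := exists_extend {p} (by simp) (fun _ => z) (by simp)
    exact ⟨⟨g, hg⟩, trivial, e p (by simp)⟩) (fun _ _ => Finset.mem_univ _)
  rw [top_inf_eq, Subgroup.card_top, card_M24, Finset.card_univ, card_pt] at this
  omega

theorem exists_two {p q p' q' : GolayPt} (h : p ≠ q) (h' : p' ≠ q') :
    ∃ g ∈ M24, g p = p' ∧ g q = q' := by
  obtain ⟨g, hg, e⟩ := exists_extend {p, q} (Finset.card_le_two.trans (by omega))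
    (fun x => if x = p then p' else q') (by
      intro x hx y hy e
      simp only [Finset.coe_insert, Finset.coe_singleton, Set.mem_insert_iff,
        Set.mem_singleton_iff] at hx hy
      rcases hx with rfl | rfl <;> rcases hy with rfl | rfl <;> simp_all [h.symm])
  exact ⟨g, hg, by simpa using e p (by simp), by simpa [h.symm] using e q (by simp)⟩

theorem card_stab_pt2 {p q : GolayPt} (h : p ≠ q) :
    Nat.card ↥(stabilizer M24 p ⊓ stabilizer M24 q) = 443520 := by
  have := card_inf_pt (stabilizer M24 p) q (Finset.univ.erase p) (fun z hz => by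
    obtain ⟨g, hg, e⟩ := exists_two h (Finset.ne_of_mem_erase hz).symm
    exact ⟨⟨g, hg⟩, e.1, e.2⟩) (fun g hg => Finset.mem_erase.2 ⟨fun e => h (by
      rw [← mem_stab_pt.1 hg] at e; exact ((g : Perm GolayPt).injective e).symm),
      Finset.mem_univ _⟩)
  rw [card_stab_pt, Finset.card_erase_of_mem (Finset.mem_univ _), Finset.card_univ, card_pt] at this
  omega

theorem card_stab_dod_in {d : Finset GolayPt} (hd : d ∈ dodecads) {p : GolayPt} (hp : p ∈ d) :
    Nat.card ↥(stabilizer M24 d ⊓ stabilizer M24 p) = 7920 := by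
  have := card_inf_pt (stabilizer M24 d) p d (fun z hz => by
    obtain ⟨k, hk, a1, a2⟩ := std_dod_in hd hp
    obtain ⟨k', hk', b1, b2⟩ := std_dod_in hd hz
    exact ⟨⟨_, quot_mem hk hk'⟩, quot_smul a1 b1, quot_apply a2 b2⟩)
    (fun g hg => (mem_iff_of_smul_eq (mem_stab_M24.1 hg) p).2 hp)
  rw [card_stab_dodecad hd, hd.2] at this
  omega

theorem ne_of_fix {g : Perm GolayPt} {p q : GolayPt} (h : g p = p) (hne : p ≠ q) : g q ≠ p :=
  fun e => hne (g.injective (h.trans e.symm))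

theorem card_stab_dod_in_out {d : Finset GolayPt} (hd : d ∈ dodecads) {p q : GolayPt} (hp : p ∈ d)
    (hq : q ∉ d) : Nat.card ↥(stabilizer M24 d ⊓ stabilizer M24 p ⊓ stabilizer M24 q) = 660 := by
  have := card_inf_pt (stabilizer M24 d ⊓ stabilizer M24 p) q dᶜ (fun z hz => by
    obtain ⟨k, hk, a1, a2, a3⟩ := std_dod_in_out hd hp hq
    obtain ⟨k', hk', b1, b2, b3⟩ := std_dod_in_out hd hp (Finset.mem_compl.1 hz)
    exact ⟨⟨_, quot_mem hk hk'⟩, ⟨quot_smul a1 b1, quot_apply a2 b2⟩, quot_apply a3 b3⟩)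
    (fun g hg => Finset.mem_compl.2 fun h => hq ((mem_iff_of_smul_eq (mem_stab_M24.1 hg.1) q).1 h))
  rw [card_stab_dod_in hd hp, Finset.card_compl, card_pt, hd.2] at this
  omega

theorem card_stab_dod_in3 {d : Finset GolayPt} (hd : d ∈ dodecads) {p q r : GolayPt} (hp : p ∈ d)
    (hq : q ∈ d) (hr : r ∈ d) (hpq : p ≠ q) (hpr : p ≠ r) (hqr : q ≠ r) :
    Nat.card ↥(stabilizer M24 d ⊓ stabilizer M24 p ⊓ stabilizer M24 q ⊓ stabilizer M24 r) = 72 := by
  have h2 := card_inf_pt (stabilizer M24 d ⊓ stabilizer M24 p) q (d.erase p) (fun z hz => by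
    obtain ⟨k, hk, a1, a2, a3⟩ := std_dod_in_in hd hp hq hpq
    obtain ⟨k', hk', b1, b2, b3⟩ := std_dod_in_in hd hp (Finset.mem_of_mem_erase hz)
      (Finset.ne_of_mem_erase hz).symm
    exact ⟨⟨_, quot_mem hk hk'⟩, ⟨quot_smul a1 b1, quot_apply a2 b2⟩, quot_apply a3 b3⟩)
    (fun g hg => Finset.mem_erase.2 ⟨ne_of_fix hg.2 hpq,
      (mem_iff_of_smul_eq (mem_stab_M24.1 hg.1) q).2 hq⟩)
  have h3 := card_inf_pt (stabilizer M24 d ⊓ stabilizer M24 p ⊓ stabilizer M24 q) r
    ((d.erase p).erase q) (fun z hz => by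
    obtain ⟨k, hk, a1, a2, a3, a4⟩ := std_dod_in3 hd hp hq hr hpq hpr hqr
    obtain ⟨k', hk', b1, b2, b3, b4⟩ := std_dod_in3 hd hp hq
      (Finset.mem_of_mem_erase (Finset.mem_of_mem_erase hz)) hpq
      (Finset.ne_of_mem_erase (Finset.mem_of_mem_erase hz)).symm (Finset.ne_of_mem_erase hz).symm
    exact ⟨⟨_, quot_mem hk hk'⟩, ⟨⟨quot_smul a1 b1, quot_apply a2 b2⟩, quot_apply a3 b3⟩,
      quot_apply a4 b4⟩)
    (fun g hg => Finset.mem_erase.2 ⟨ne_of_fix hg.2 hqr, Finset.mem_erase.2 ⟨ne_of_fix hg.1.2 hpr,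
      (mem_iff_of_smul_eq (mem_stab_M24.1 hg.1.1) r).2 hr⟩⟩)
  rw [card_stab_dod_in hd hp, Finset.card_erase_of_mem hp, hd.2] at h2
  rw [Finset.card_erase_of_mem (Finset.mem_erase.2 ⟨hpq.symm, hq⟩), Finset.card_erase_of_mem hp,
    hd.2] at h3
  omega

/-! ### The pointwise stabiliser of an octad -/

theorem octad_rigid {o : Finset GolayPt} (ho : o ∈ octads) {p : GolayPt} (hp : p ∉ o)
    {g : Perm GolayPt} (hg : g ∈ M24) (h1 : ∀ x ∈ o, g x = x) (h2 : g p = p) : g = 1 := by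
  obtain ⟨k, hk, rfl, rfl⟩ := std_oct_out ho hp
  have := rigid (g := k⁻¹ * g * k) (M24.mul_mem (M24.mul_mem (M24.inv_mem hk) hg) hk) (by
    intro x hx
    have h3 : ∀ x ∈ ofMask 0xbf, x = pt 5 ∨ x ∈ ofMask 0x149f := by decide
    rw [Perm.mul_apply, Perm.mul_apply, Perm.inv_eq_iff_eq]
    rcases h3 x hx with rfl | h4
    · exact h2
    · exact h1 _ (by rw [X_oct0]; exact apply_mem_smul.2 h4))
  calc g = k * (k⁻¹ * g * k) * k⁻¹ := by group
    _ = 1 := by rw [this]; group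

theorem octad_move {o : Finset GolayPt} (ho : o ∈ octads) {p q : GolayPt} (hp : p ∉ o) (hq : q ∉ o) :
    ∃ g ∈ M24, (∀ x ∈ o, g x = x) ∧ g p = q := by
  obtain ⟨k, hk, rfl, rfl⟩ := std_oct_out ho hp
  obtain ⟨q, rfl⟩ := k.surjective q
  rw [apply_mem_smul, X_oct0] at hq
  obtain ⟨σ, hσ, h1, h2⟩ := p24_move (t := 6) (b := 5) (r := 5) (O := 0x149f ^^^ 0xffffff)
    (F := 0x149f) (by norm_num) (by decide +kernel) (q := q)
    (by rw [ofMask_compl, Finset.mem_compl]; exact hq)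
  refine ⟨k * toG σ * k⁻¹, conj_mem_M24 hk (K_E24 P24.hA p24_ok hσ).2, fun x hx => ?_,
    conj_apply h1⟩
  obtain ⟨x, rfl⟩ := k.surjective x
  rw [apply_mem_smul, X_oct0] at hx
  exact conj_apply (h2 x hx)

theorem card_fix_octad {o : Finset GolayPt} (ho : o ∈ octads) {H : Subgroup M24}
    (hH : ∀ g, g ∈ H ↔ ∀ x ∈ o, (g : Perm GolayPt) x = x) : Nat.card H = 16 := by
  have hc : oᶜ.card = 16 := by rw [Finset.card_compl, card_pt, ho.2]
  obtain ⟨p, hp⟩ := Finset.card_pos.1 (show 0 < oᶜ.card by omega)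
  have := card_inf_pt H p oᶜ (fun z hz => by
    obtain ⟨g, hg, h1, h2⟩ := octad_move ho (Finset.mem_compl.1 hp) (Finset.mem_compl.1 hz)
    exact ⟨⟨g, hg⟩, (hH _).2 h1, h2⟩) (fun g hg => Finset.mem_compl.2 fun h => by
      have := (g : Perm GolayPt).injective ((hH g).1 hg _ h)
      rw [this] at h
      exact Finset.mem_compl.1 hp h)
  have h2 : H ⊓ stabilizer M24 p = ⊥ := by
    rw [eq_bot_iff]
    intro g hg
    exact Subtype.ext (octad_rigid ho (Finset.mem_compl.1 hp) g.2 ((hH g).1 hg.1) hg.2)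
  rw [h2, hc, Subgroup.card_bot] at this
  omega

/-- the action of the stabiliser of a set on the set -/
def resHom (s : Finset GolayPt) : stabilizer M24 s →* Perm s :=
  permOn s (stabilizer M24 s) fun _ hg p => mem_iff_of_smul_eq (mem_stab_M24.1 hg) p

theorem range_resHom_octad {o : Finset GolayPt} (ho : o ∈ octads) :
    (resHom o).range = alternatingGroup o := by
  apply Perm.eq_alternatingGroup_of_index_eq_two
  have h1 := (resHom o).ker.card_mul_index
  have h2 : Nat.card (resHom o).ker = 16 := by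
    rw [← card_fix_octad ho (H := (resHom o).ker.map (Subgroup.subtype _)) (fun g => by
      constructor
      · rintro ⟨g, hg, rfl⟩; exact (mem_ker_permOn _ _ _ g).1 hg
      · intro h
        refine ⟨⟨g, smul_eq_of_mem_iff fun p => ⟨fun hp => ?_, fun hp => by rwa [h p hp]⟩⟩,
          (mem_ker_permOn _ _ _ _).2 h, rfl⟩
        rwa [(g : Perm GolayPt).injective (h _ hp)] at hp), Subgroup.card_subtype]
  rw [Subgroup.index_ker, h2, card_stab_octad ho] at h1
  have h3 := (resHom o).range.card_mul_index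
  rw [Nat.card_perm, Nat.card_eq_fintype_card (α := o), Fintype.card_coe, ho.2] at h3
  have h4 : Nat.card (resHom o).range = 20160 := by omega
  rw [h4] at h3
  have : Nat.factorial 8 = 40320 := by decide
  omega

end Cfsg.Agent.Golay
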