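import Cfsg.Agent.Lib.Golay.M24
import Cfsg.Agent.Lib.PG.Cols

/-!
Families of subsets and of partitions of the 24 points, indexed by numbers and given by bit
planes, with the action of `M24` read off from networks.
-/

set_option autoImplicit false

namespace Cfsg.Agent.Golay

open Cfsg Cfsg.Agent.PG Equiv
open scoped Pointwise

/-- the subset in column `i` -/
noncomputable def XS (S : List ℕ) (i : ℕ) : Finset GolayPt := ofMask (colVal S i)

theorem mem_XS {S : List ℕ} {i : ℕ} {p : GolayPt} :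
    p ∈ XS S i ↔ (nthD 0 S (idx p)).testBit i = true := by
  rw [XS, mem_ofMask, testBit_colVal]

/-- the networks permute the planes as the points -/
noncomputable def subOK (A : List Net) (S : List ℕ) : Bool :=
  allL (kgens A 0) fun l => allN 24 fun p =>
    Nat.beq (papp1 A l (nthD 0 S p)) (nthD 0 S (pre A l p))

theorem gw_mem_kgens {A : List Net} {j : ℕ} (hj : j < A.length) : [gw j] ∈ kgens A 0 :=
  List.mem_map.2 ⟨j, by rw [List.mem_range'_1]; omega, rfl⟩

theorem m24OK_len {A : List Net} (h : m24OK A = true) : A.length ≤ 128 := by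
  unfold m24OK at h
  simp only [andB_eq, Bool.and_eq_true, Nat.ble_eq] at h
  exact h.1

theorem pp_gw {A : List Net} {j : ℕ} (hj : j < 128) : pp A [gw j] = gp A j := by
  rw [pp_cons, pp_nil, mul_one, sp_gw A hj]

/-- an action compatible on the generators is compatible on the whole group -/
theorem acts_of_gens {N : ℕ} {A : List Net} (hA : okA N A = true) (hm : m24OK A = true)
    {Y : Type*} [MulAction (Perm GolayPt) Y] {X : ℕ → Y} {B : Set ℕ}
    (h : ∀ j < A.length, Acts X B (toG (gp A j)) (gp A j)) {σ : Perm ℕ} (hσ : σ ∈ K A 0) :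
    Acts X B (toG σ) σ :=
  (mem_of_K (E := E24 ⊓ actsSub X B) inf_le_left
    (fun j _ hj => ⟨gp_E24 hA hm j, h j hj⟩) hσ).2

theorem smul_XS {N : ℕ} {A : List Net} (hA : okA N A = true) (hm : m24OK A = true) {S : List ℕ}
    (h : subOK A S = true) {σ : Perm ℕ} (hσ : σ ∈ K A 0) (i : ℕ) :
    toG σ • XS S i = XS S (σ i) := by
  refine (acts_of_gens hA hm (X := XS S) (B := Set.univ) (fun j hj => ⟨fun _ => Iff.rfl, ?_⟩)
    hσ).2 i trivial
  intro i _
  have hj' : j < 128 := lt_of_lt_of_le hj (m24OK_len hm)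
  ext p
  have h1 := allN_spec (allL_spec h _ (gw_mem_kgens hj)) _ (idx_lt p)
  rw [Nat.beq_eq, pre_eq hA, pp_gw hj'] at h1
  have h2 := Lk.idx (Acts.inv (mem_E24.1 (gp_E24 hA hm j)).1) p
  rw [mem_smul_iff, mem_XS, mem_XS, h2, ← h1, testBit_papp1 hA, pp_gw hj']

theorem colVal_lt (S : List ℕ) (i : ℕ) : colVal S i < 2 ^ S.length := by
  induction S with
  | nil => show 0 < 1; omega
  | cons P S ih =>
    rw [colVal_cons, List.length_cons, pow_succ]
    cases P.testBit i <;> simp <;> omega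

theorem injOn_XS {S : List ℕ} (hS : S.length = 24) {lo hi : ℕ} (h : sortedB S lo hi = true) :
    Set.InjOn (XS S) (bset (ivl lo hi)) := fun i hi' j hj e =>
  sortedB_inj h hi' hj (ofMask_inj (hS ▸ colVal_lt S i) (hS ▸ colVal_lt S j) e)

/-- the block of indices enumerates the family `F` -/
theorem image_eq_of_card {A : List Net} {Y : Type*} [MulAction (Perm GolayPt) Y] {X : ℕ → Y}
    {lo hi i0 : ℕ} {F : Set Y} (hF : F.Finite) (hinv : ∀ g ∈ M24, ∀ y ∈ F, g • y ∈ F)
    (hact : ∀ σ ∈ K A 0, toG σ ∈ M24 ∧ toG σ • X i0 = X (σ i0))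
    (hcov : ∀ i ∈ bset (ivl lo hi), ∃ σ ∈ K A 0, σ i0 = i) (h0 : X i0 ∈ F)
    (hinj : Set.InjOn X (bset (ivl lo hi))) (hc : F.ncard = hi - lo) :
    X '' bset (ivl lo hi) = F := by
  apply Set.eq_of_subset_of_ncard_le _ _ hF
  · rintro _ ⟨i, hi, rfl⟩
    obtain ⟨σ, hσ, rfl⟩ := hcov i hi
    rw [← (hact σ hσ).2]
    exact hinv _ (hact σ hσ).1 _ h0
  · rw [hc, hinj.ncard_image, ncard_bset_ivl]

theorem cover_K {N : ℕ} {A : List Net} (hA : okA N A = true) (hl : A.length ≤ 128) {t r i0 B : ℕ}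
    (h : coverB A (kgens A t) r [i0] B = true) : ∀ i ∈ bset B, ∃ σ ∈ K A t, σ i0 = i := by
  intro i hi
  obtain ⟨a, ha, σ, hσ, e⟩ := coverB_spec hA (kgens_mem hl t) h hi
  exact ⟨σ, hσ, by rw [← List.mem_singleton.1 ha, e]⟩

/-! ### Partitions -/

/-- the plane of the columns in which the points `p` and `q` have different labels -/
noncomputable def dif (Lab : List (List ℕ)) (p q : ℕ) : ℕ :=
  orL (Lab.map fun L => Nat.xor (nthD 0 L p) (nthD 0 L q))

theorem testBit_orL' {l : List ℕ} {i : ℕ} :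
    (orL l).testBit i = true ↔ ∃ a ∈ l, a.testBit i = true := by
  refine ⟨testBit_orL, ?_⟩
  induction l with
  | nil => rintro ⟨a, ha, _⟩; cases ha
  | cons b l ih =>
    rintro ⟨a, ha, h⟩
    show (b ||| orL l).testBit i = true
    rw [Nat.testBit_or, Bool.or_eq_true]
    rcases List.mem_cons.1 ha with h1 | h1
    · left; rwa [← h1]
    · right; exact ih ⟨a, h1, h⟩

theorem dif_iff {Lab : List (List ℕ)} {p q i : ℕ} : (dif Lab p q).testBit i = false ↔
    ∀ L ∈ Lab, (nthD 0 L p).testBit i = (nthD 0 L q).testBit i := by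
  rw [← Bool.not_eq_true, dif, testBit_orL']
  have e : ∀ a b : ℕ, Nat.xor a b = a ^^^ b := fun _ _ => rfl
  simp only [List.mem_map, exists_exists_and_eq_and, e, Nat.testBit_xor, not_exists, not_and]
  refine forall₂_congr fun L _ => ?_
  cases (nthD 0 L p).testBit i <;> cases (nthD 0 L q).testBit i <;> simp

/-- the part containing `p` of the partition in column `i` -/
noncomputable def part (Lab : List (List ℕ)) (i : ℕ) (p : GolayPt) : Finset GolayPt :=
  Finset.univ.filter fun q => (dif Lab (idx p) (idx q)).testBit i = false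

theorem mem_part {Lab : List (List ℕ)} {i : ℕ} {p q : GolayPt} :
    q ∈ part Lab i p ↔ (dif Lab (idx p) (idx q)).testBit i = false := by simp [part]

theorem part_eq_of_mem {Lab : List (List ℕ)} {i : ℕ} {p q : GolayPt} (h : q ∈ part Lab i p) :
    part Lab i q = part Lab i p := by
  ext r
  rw [mem_part, dif_iff] at *
  rw [mem_part, dif_iff]
  exact forall₂_congr fun L hL => by rw [h L hL]

theorem self_mem_part (Lab : List (List ℕ)) (i : ℕ) (p : GolayPt) : p ∈ part Lab i p := by
  rw [mem_part, dif_iff]; intros; rfl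

/-- the partition in column `i` -/
noncomputable def XP (Lab : List (List ℕ)) (i : ℕ) : Finset (Finset GolayPt) :=
  Finset.univ.image (part Lab i)

/-- the networks permute the difference planes as the points -/
noncomputable def partOK1 (A : List Net) (Lab : List (List ℕ)) (j : ℕ) : Bool :=
  allN 24 fun p => allN p fun q =>
    Nat.beq (papp1 A [gw j] (dif Lab p q)) (dif Lab (pre A [gw j] p) (pre A [gw j] q))

theorem dif_comm (Lab : List (List ℕ)) (p q : ℕ) : dif Lab p q = dif Lab q p := by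
  unfold dif
  congr 2
  funext L
  exact Nat.xor_comm _ _

theorem smul_XP {N : ℕ} {A : List Net} (hA : okA N A = true) (hm : m24OK A = true)
    {Lab : List (List ℕ)} (h : ∀ j < A.length, partOK1 A Lab j = true) {σ : Perm ℕ}
    (hσ : σ ∈ K A 0) (i : ℕ) : toG σ • XP Lab i = XP Lab (σ i) := by
  refine (acts_of_gens hA hm (X := XP Lab) (B := Set.univ) (fun j hj => ⟨fun _ => Iff.rfl, ?_⟩)
    hσ).2 i trivial
  intro i _
  have hj' : j < 128 := lt_of_lt_of_le hj (m24OK_len hm)
  have hl := (mem_E24.1 (gp_E24 hA hm j)).1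
  have key : ∀ p q : GolayPt, (dif Lab (idx p) (idx q)).testBit (gp A j i) =
      (dif Lab (idx ((toG (gp A j))⁻¹ p)) (idx ((toG (gp A j))⁻¹ q))).testBit i := by
    have k0 : ∀ p q : GolayPt, idx q < idx p → (dif Lab (idx p) (idx q)).testBit (gp A j i) =
        (dif Lab (idx ((toG (gp A j))⁻¹ p)) (idx ((toG (gp A j))⁻¹ q))).testBit i := by
      intro p q hpq
      have h1 := allN_spec (allN_spec (h j hj) _ (idx_lt p)) _ hpq
      rw [Nat.beq_eq, pre_eq hA, pre_eq hA, pp_gw hj'] at h1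
      rw [Lk.idx (Acts.inv hl) p, Lk.idx (Acts.inv hl) q, ← h1, testBit_papp1 hA, pp_gw hj']
    intro p q
    rcases lt_trichotomy (idx q) (idx p) with h1 | h1 | h1
    · exact k0 p q h1
    · rw [idx_inj h1, mem_part.1 (self_mem_part Lab _ p), mem_part.1 (self_mem_part Lab _ _)]
    · rw [dif_comm, k0 q p h1, dif_comm]
  have key2 : ∀ p, toG (gp A j) • part Lab i p = part Lab (gp A j i) (toG (gp A j) p) := by
    intro p
    ext q
    rw [mem_smul_iff, mem_part, mem_part, key]; simp
  ext s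
  simp only [XP, Finset.mem_smul_finset, Finset.mem_image, Finset.mem_univ, true_and]
  constructor
  · rintro ⟨_, ⟨p, rfl⟩, rfl⟩; exact ⟨_, (key2 p).symm⟩
  · rintro ⟨p, rfl⟩
    exact ⟨_, ⟨(toG (gp A j))⁻¹ p, rfl⟩, by rw [key2]; simp⟩

theorem part_eq_of_XP_eq {Lab : List (List ℕ)} {i j : ℕ} (e : XP Lab i = XP Lab j) (p : GolayPt) :
    part Lab i p = part Lab j p := by
  have h1 : part Lab i p ∈ XP Lab j := e ▸ Finset.mem_image.2 ⟨p, Finset.mem_univ _, rfl⟩
  obtain ⟨q, _, h2⟩ := Finset.mem_image.1 h1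
  have h3 : p ∈ part Lab j q := h2 ▸ self_mem_part Lab i p
  rw [← h2, part_eq_of_mem h3]

theorem injOn_XP {Lab : List (List ℕ)} {prs : List (ℕ × ℕ)} (hp : ∀ x ∈ prs, x.1 < 24 ∧ x.2 < 24)
    {lo hi : ℕ} (h : sortedB (prs.map fun x => dif Lab x.1 x.2) lo hi = true) :
    Set.InjOn (XP Lab) (bset (ivl lo hi)) := by
  intro i hi' j hj e
  apply sortedB_inj h hi' hj
  apply colVal_congr
  intro P hP
  obtain ⟨x, hx, rfl⟩ := List.mem_map.1 hP
  have h1 := Finset.ext_iff.1 (part_eq_of_XP_eq e (pt x.1)) (pt x.2)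
  rw [mem_part, mem_part, idx_pt _ (hp x hx).1, idx_pt _ (hp x hx).2] at h1
  revert h1
  cases (dif Lab x.1 x.2).testBit i <;> cases (dif Lab x.1 x.2).testBit j <;> simp

/-- test that the partition in column `i` has the parts `ts` -/
noncomputable def partsB (Lab : List (List ℕ)) (i : ℕ) (ts : List ℕ) : Bool :=
  andB (Nat.beq (orL ts) 0xffffff) <| allL ts fun t => andB (Nat.blt 0 t) <|
    andB (Nat.blt t 16777216) <| allN 24 fun p => orB (Bool.not (bit t p)) <|
      allN 24 fun q => Bool.xor (bit t q) (bit (dif Lab p q) i)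

theorem mem_XP_of_partsB {Lab : List (List ℕ)} {i : ℕ} {ts : List ℕ}
    (h : partsB Lab i ts = true) (s : Finset GolayPt) :
    s ∈ XP Lab i ↔ ∃ t ∈ ts, ofMask t = s := by
  unfold partsB at h
  simp only [andB_eq, Bool.and_eq_true, Nat.beq_eq] at h
  have key : ∀ t ∈ ts, ∀ p ∈ ofMask t, part Lab i p = ofMask t := by
    intro t ht p hp
    have h1 := allL_spec h.2 t ht
    simp only [Bool.and_eq_true] at h1
    have h2 := allN_spec h1.2.2 _ (idx_lt p)
    rw [orB_eq, bit_eq, mem_ofMask.1 hp] at h2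
    simp only [Bool.not_true, Bool.false_or] at h2
    ext q
    have h3 := allN_spec h2 _ (idx_lt q)
    rw [bit_eq, bit_eq] at h3
    rw [mem_part, mem_ofMask]
    revert h3
    cases t.testBit (idx q) <;> cases (dif Lab (idx p) (idx q)).testBit i <;> simp
  simp only [XP, Finset.mem_image, Finset.mem_univ, true_and]
  constructor
  · rintro ⟨p, rfl⟩
    have h1 : (orL ts).testBit (idx p) = true := by rw [h.1, testBit_full]; exact idx_lt p
    obtain ⟨t, ht, h2⟩ := testBit_orL h1
    exact ⟨t, ht, (key t ht p (mem_ofMask.2 h2)).symm⟩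
  · rintro ⟨t, ht, rfl⟩
    have h1 := allL_spec h.2 t ht
    simp only [Bool.and_eq_true, Nat.blt_eq] at h1
    have h2 : ofMask t ≠ ofMask 0 := fun e => by
      have := ofMask_inj h1.2.1 (by norm_num) e; omega
    rw [ofMask_zero] at h2
    obtain ⟨p, hp⟩ := Finset.nonempty_iff_ne_empty.2 h2
    exact ⟨p, key t ht p hp⟩

end Cfsg.Agent.Golay
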