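import Cfsg.Prelude.Def_SporadicCombinatorics
import Cfsg.Agent.Lib.PG.Gen

/-!
The Golay code on bit masks.
-/

set_option autoImplicit false

namespace Cfsg.Agent.Golay

open Cfsg Cfsg.Agent.PG
open scoped Pointwise symmDiff

/-- the number of a point -/
def idx : GolayPt → ℕ
  | none => 23
  | some x => x.val

/-- the point with a given number -/
def pt (i : ℕ) : GolayPt := if i < 23 then some (i : ZMod 23) else none

theorem idx_lt : ∀ p : GolayPt, idx p < 24 := by decide
theorem pt_idx : ∀ p : GolayPt, pt (idx p) = p := by decide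
theorem idx_pt : ∀ i < 24, idx (pt i) = i := by decide
theorem idx_inj {p q : GolayPt} (h : idx p = idx q) : p = q := by
  rw [← pt_idx p, h, pt_idx]
theorem pt_inj {i j : ℕ} (hi : i < 24) (hj : j < 24) (h : pt i = pt j) : i = j := by
  rw [← idx_pt i hi, h, idx_pt j hj]
theorem card_pt : Fintype.card GolayPt = 24 := by decide

theorem forall_pt {P : GolayPt → Prop} (h : ∀ i < 24, P (pt i)) (p : GolayPt) : P p := by
  rw [← pt_idx p]; exact h _ (idx_lt p)

/-- the set of points of a mask -/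
def ofMask (m : ℕ) : Finset GolayPt := Finset.univ.filter fun p => m.testBit (idx p) = true

@[simp] theorem mem_ofMask {m : ℕ} {p : GolayPt} : p ∈ ofMask m ↔ m.testBit (idx p) = true := by
  simp [ofMask]

theorem pt_mem_ofMask {m i : ℕ} (hi : i < 24) : pt i ∈ ofMask m ↔ m.testBit i = true := by
  rw [mem_ofMask, idx_pt i hi]

/-- the mask of a set of points -/
def toMask (s : Finset GolayPt) : ℕ := Nat.ofBits fun i : Fin 24 => decide (pt i ∈ s)

theorem toMask_lt (s : Finset GolayPt) : toMask s < 2 ^ 24 := Nat.ofBits_lt_two_pow _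

@[simp] theorem ofMask_toMask (s : Finset GolayPt) : ofMask (toMask s) = s := by
  ext p
  rw [mem_ofMask, toMask, Nat.testBit_ofBits_lt _ _ (idx_lt p)]
  simp [pt_idx]

theorem exists_mask (s : Finset GolayPt) : ∃ m < 2 ^ 24, ofMask m = s :=
  ⟨toMask s, toMask_lt s, ofMask_toMask s⟩

theorem ofMask_inj {a b : ℕ} (ha : a < 2 ^ 24) (hb : b < 2 ^ 24) (h : ofMask a = ofMask b) :
    a = b := by
  apply Nat.eq_of_testBit_eq
  intro i
  by_cases hi : i < 24
  · have := Finset.ext_iff.1 h (pt i)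
    rw [pt_mem_ofMask hi, pt_mem_ofMask hi] at this
    exact Bool.eq_iff_iff.2 this
  · have h1 : 2 ^ 24 ≤ 2 ^ i := Nat.pow_le_pow_right (by norm_num) (by omega)
    rw [Nat.testBit_lt_two_pow (by omega), Nat.testBit_lt_two_pow (by omega)]

theorem ofMask_and (a b : ℕ) : ofMask (a &&& b) = ofMask a ∩ ofMask b := by
  ext p; simp [Nat.testBit_and]

theorem ofMask_or (a b : ℕ) : ofMask (a ||| b) = ofMask a ∪ ofMask b := by
  ext p; simp [Nat.testBit_or]

theorem ofMask_xor (a b : ℕ) : ofMask (a ^^^ b) = ofMask a ∆ ofMask b := by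
  ext p
  simp only [mem_ofMask, Nat.testBit_xor, Finset.mem_symmDiff]
  cases a.testBit (idx p) <;> cases b.testBit (idx p) <;> simp

theorem ofMask_zero : ofMask 0 = ∅ := by ext p; simp

theorem ofMask_full : ofMask 0xffffff = Finset.univ := by decide

theorem ofMask_compl (a : ℕ) : ofMask (a ^^^ 0xffffff) = (ofMask a)ᶜ := by
  rw [ofMask_xor, ofMask_full]; ext p; simp [Finset.mem_symmDiff]

theorem ofMask_two_pow {i : ℕ} (hi : i < 24) : ofMask (2 ^ i) = {pt i} := by
  ext p
  rw [mem_ofMask, Nat.testBit_two_pow, Finset.mem_singleton]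
  simp only [decide_eq_true_eq]
  exact ⟨fun h => by rw [h, pt_idx], fun h => by rw [h, idx_pt i hi]⟩

theorem ofMask_mod (a : ℕ) : ofMask (a % 2 ^ 24) = ofMask a := by
  ext p; rw [mem_ofMask, mem_ofMask, Nat.testBit_mod_two_pow]; simp [idx_lt p]

theorem card_ofMask_eq_cnt (m : ℕ) : (ofMask m).card = cnt 24 m := by
  unfold cnt
  apply Finset.card_bij (fun p _ => idx p)
  · intro p hp
    simp only [Finset.mem_filter, Finset.mem_range]
    exact ⟨idx_lt p, mem_ofMask.1 hp⟩
  · intro p _ q _ h; exact idx_inj h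
  · intro i hi
    simp only [Finset.mem_filter, Finset.mem_range] at hi
    exact ⟨pt i, (pt_mem_ofMask hi.1).2 hi.2, idx_pt i hi.1⟩

/-- number of points of a mask -/
def pc (x : ℕ) : ℕ :=
  Nat.add (pop8 (Nat.land x 255))
    (Nat.add (pop8 (Nat.land (Nat.shiftRight x 8) 255)) (pop8 (Nat.land (Nat.shiftRight x 16) 255)))

theorem cnt_and_self (n v : ℕ) : cnt n (v &&& (2 ^ n - 1)) = cnt n v := by
  unfold cnt
  congr 1
  apply Finset.filter_congr
  intro i hi
  rw [Nat.testBit_and, Nat.testBit_two_pow_sub_one]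
  simp [Finset.mem_range.1 hi]

theorem card_ofMask (x : ℕ) : (ofMask x).card = pc x := by
  have hb : ∀ y : ℕ, y &&& 255 < 256 := fun y => Nat.and_lt_two_pow y (show 255 < 2 ^ 8 by norm_num)
  have e : pc x = pop8 (x &&& 255) + (pop8 ((x >>> 8) &&& 255) + pop8 ((x >>> 16) &&& 255)) := rfl
  rw [card_ofMask_eq_cnt, e, pop8_spec _ (hb _), pop8_spec _ (hb _), pop8_spec _ (hb _),
    show 24 = 8 + (8 + 8) from rfl, cnt_add, cnt_add, ← Nat.shiftRight_add,
    ← cnt_and_self 8 (x >>> (8 + 8))]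
  rfl

/-! ### Code words -/

/-- `s` is the support of a code word -/
def Cw (s : Finset GolayPt) : Prop := s ∈ supports (golayCode : Set (GolayPt → ZMod 2))

/-- the word with a given support -/
def wd (s : Finset GolayPt) : GolayPt → ZMod 2 := fun p => if p ∈ s then 1 else 0

theorem support_wd (s : Finset GolayPt) : support₂ (wd s) = s := by
  ext p; by_cases h : p ∈ s <;> simp [support₂, wd, h]

theorem wd_support (w : GolayPt → ZMod 2) : wd (support₂ w) = w := by
  funext p
  have : ∀ a : ZMod 2, (if a ≠ 0 then 1 else 0) = a := by decide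
  simp only [wd, support₂, Finset.mem_filter, Finset.mem_univ, true_and]
  exact this _

theorem wd_symmDiff (s t : Finset GolayPt) : wd (s ∆ t) = wd s + wd t := by
  funext p
  have : (1 : ZMod 2) + 1 = 0 := by decide
  by_cases h1 : p ∈ s <;> by_cases h2 : p ∈ t <;> simp [wd, Finset.mem_symmDiff, h1, h2, this]

theorem cw_iff (s : Finset GolayPt) : Cw s ↔ wd s ∈ golayCode := by
  constructor
  · rintro ⟨w, hw, rfl⟩; rwa [wd_support]
  · intro h; exact ⟨_, h, support_wd s⟩

theorem cw_support {w : GolayPt → ZMod 2} : Cw (support₂ w) ↔ w ∈ golayCode := by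
  rw [cw_iff, wd_support]

theorem Cw.symmDiff {s t : Finset GolayPt} (hs : Cw s) (ht : Cw t) : Cw (s ∆ t) := by
  rw [cw_iff] at *; rw [wd_symmDiff]; exact golayCode.add_mem hs ht

theorem cw_empty : Cw ∅ := by
  rw [cw_iff]
  have : wd ∅ = 0 := by funext p; simp [wd]
  rw [this]; exact golayCode.zero_mem

theorem cw_univ : Cw Finset.univ := by
  rw [cw_iff]
  have : wd Finset.univ = 1 := by funext p; simp [wd]
  rw [this]; exact Submodule.subset_span (Set.mem_union_right _ rfl)

theorem Cw.compl {s : Finset GolayPt} (hs : Cw s) : Cw sᶜ := by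
  have := hs.symmDiff cw_univ
  convert this using 1
  ext p; simp [Finset.mem_symmDiff]

theorem mem_octads {s : Finset GolayPt} : s ∈ octads ↔ Cw s ∧ s.card = 8 := Iff.rfl
theorem mem_dodecads {s : Finset GolayPt} : s ∈ dodecads ↔ Cw s ∧ s.card = 12 := Iff.rfl

/-- `b` if bit `j` of `m` is set -/
def sel (m j b : ℕ) : ℕ := Nat.mul (Nat.land (Nat.shiftRight m j) 1) b

theorem sel_eq (m j b : ℕ) : sel m j b = if m.testBit j then b else 0 := by
  have h : sel m j b = ((m >>> j) &&& 1) * b := rfl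
  rw [h, Nat.and_one_is_mod, Nat.testBit, Nat.one_and_eq_mod_two]
  rcases Nat.mod_two_eq_zero_or_one (m >>> j) with h | h <;> rw [h] <;> simp

theorem sel_xor (m m' j b : ℕ) : sel (m ^^^ m') j b = sel m j b ^^^ sel m' j b := by
  simp only [sel_eq, Nat.testBit_xor]
  cases m.testBit j <;> cases m'.testBit j <;> simp

/-- the code word with information bits `m` -/
def enc (m : ℕ) : ℕ :=
  Nat.xor (Nat.xor (Nat.xor (Nat.xor (sel m 0 0xc75001) (sel m 1 0x49f002))
    (Nat.xor (sel m 2 0xd4b004) (sel m 3 0x6e3008)))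
    (Nat.xor (Nat.xor (sel m 4 0x9b3010) (sel m 5 0xb66020))
    (Nat.xor (sel m 6 0xecc040) (sel m 7 0x1ed080))))
    (Nat.xor (Nat.xor (sel m 8 0x3da100) (sel m 9 0x7b4200))
    (Nat.xor (sel m 10 0xb1d400) (sel m 11 0xe3a800)))

theorem enc_def (m : ℕ) : enc m =
  (((sel m 0 0xc75001 ^^^ sel m 1 0x49f002) ^^^ (sel m 2 0xd4b004 ^^^ sel m 3 0x6e3008)) ^^^
    ((sel m 4 0x9b3010 ^^^ sel m 5 0xb66020) ^^^ (sel m 6 0xecc040 ^^^ sel m 7 0x1ed080))) ^^^
    ((sel m 8 0x3da100 ^^^ sel m 9 0x7b4200) ^^^ (sel m 10 0xb1d400 ^^^ sel m 11 0xe3a800)) := rfl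

theorem enc_xor (a b : ℕ) : enc (a ^^^ b) = enc a ^^^ enc b := by
  simp only [enc_def, sel_xor]
  ac_rfl

theorem enc_mod (m : ℕ) : enc (m % 4096) = enc m := by
  have : ∀ j b, j < 12 → sel (m % 4096) j b = sel m j b := by
    intro j b hj
    rw [sel_eq, sel_eq, show 4096 = 2 ^ 12 from rfl, Nat.testBit_mod_two_pow]
    simp [hj]
  simp only [enc_def]
  rw [this 0, this 1, this 2, this 3, this 4, this 5, this 6, this 7, this 8, this 9, this 10,
    this 11] <;> norm_num

theorem enc_facts : allN 4096 (fun m => force (enc m) fun x =>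
    andB (Nat.beq (Nat.mod x 4096) m) (andB (Nat.blt x 16777216) (force (pc x) fun c =>
      orB (Nat.beq c 12) (orB (Nat.beq c 8) (orB (Nat.beq c 16) (orB (Nat.beq x 0)
        (Nat.beq x 0xffffff))))))) = true := by decide +kernel

theorem enc_facts' (m : ℕ) : enc m % 4096 = m % 4096 ∧ enc m < 2 ^ 24 ∧
    (pc (enc m) = 12 ∨ pc (enc m) = 8 ∨ pc (enc m) = 16 ∨ enc m = 0 ∨ enc m = 0xffffff) := by
  have := allN_spec enc_facts (m % 4096) (Nat.mod_lt _ (by norm_num))
  simp only [force_eq, andB_eq, orB_eq, Bool.and_eq_true, Bool.or_eq_true, Nat.beq_eq,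
    Nat.blt_eq, enc_mod] at this
  exact this

theorem enc_lt (m : ℕ) : enc m < 2 ^ 24 := (enc_facts' m).2.1
theorem enc_mod' (m : ℕ) : enc m % 4096 = m % 4096 := (enc_facts' m).1
theorem enc_enc (m : ℕ) : enc (enc m) = enc m := by rw [← enc_mod (enc m), enc_mod', enc_mod]

theorem enc_inj {a b : ℕ} (ha : a < 4096) (hb : b < 4096) (h : enc a = enc b) : a = b := by
  have h1 := enc_mod' a
  rw [h, enc_mod', Nat.mod_eq_of_lt ha, Nat.mod_eq_of_lt hb] at h1
  exact h1.symm

/-- masks of the translates of the squares -/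
def qrMask (t : ℕ) : ℕ := ((0x5335f <<< t) ||| ((0x5335f <<< t) >>> 23)) % 2 ^ 23

theorem support_qrWord : ∀ t : ZMod 23, support₂ (qrWord t) = ofMask (qrMask t.val) := by
  decide +kernel

theorem enc_qrMask : ∀ t < 23, enc (qrMask t) = qrMask t := by decide +kernel

theorem cw_qrMask (t : ℕ) (ht : t < 23) : Cw (ofMask (qrMask t)) := by
  have := support_qrWord (t : ZMod 23)
  rw [ZMod.val_natCast_of_lt ht] at this
  rw [← this, cw_support]
  exact Submodule.subset_span (Set.mem_union_left _ ⟨_, rfl⟩)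

theorem cw_xor {a b : ℕ} (ha : Cw (ofMask a)) (hb : Cw (ofMask b)) : Cw (ofMask (a ^^^ b)) := by
  rw [ofMask_xor]; exact ha.symmDiff hb

theorem cw_full : Cw (ofMask 0xffffff) := by rw [ofMask_full]; exact cw_univ

theorem cw_foldr (l : List ℕ) (hl : ∀ t ∈ l, t < 23) :
    Cw (ofMask (l.foldr (fun t a => qrMask t ^^^ a) 0)) := by
  induction l with
  | nil => rw [List.foldr_nil, ofMask_zero]; exact cw_empty
  | cons t l ih =>
    exact cw_xor (cw_qrMask t (hl t List.mem_cons_self))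
      (ih fun s hs => hl s (List.mem_cons_of_mem _ hs))

theorem cw_sel {b : ℕ} (hb : Cw (ofMask b)) (m j : ℕ) : Cw (ofMask (sel m j b)) := by
  rw [sel_eq]; split_ifs
  · exact hb
  · rw [ofMask_zero]; exact cw_empty

theorem cw_enc (m : ℕ) : Cw (ofMask (enc m)) := by
  have b0 : Cw (ofMask 0xc75001) := cw_xor (cw_foldr [0, 3, 5, 7, 9, 10] (by decide)) cw_full
  have b1 : Cw (ofMask 0x49f002) := cw_foldr [3, 4, 8] (by decide)
  have b2 : Cw (ofMask 0xd4b004) := cw_xor (cw_foldr [0, 3, 4, 7, 10] (by decide)) cw_full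
  have b3 : Cw (ofMask 0x6e3008) := cw_foldr [3, 4, 5, 6, 8, 10] (by decide)
  have b4 : Cw (ofMask 0x9b3010) := cw_xor (cw_foldr [1, 3, 4, 5, 7, 9, 10] (by decide)) cw_full
  have b5 : Cw (ofMask 0xb66020) := cw_xor (cw_foldr [0, 1, 2, 4, 7, 8, 9, 10] (by decide)) cw_full
  have b6 : Cw (ofMask 0xecc040) := cw_xor (cw_foldr [0, 2, 3, 6, 7, 8, 10] (by decide)) cw_full
  have b7 : Cw (ofMask 0x1ed080) := cw_foldr [4, 6, 7, 8, 9, 10] (by decide)
  have b8 : Cw (ofMask 0x3da100) := cw_foldr [0, 1, 6, 8, 10] (by decide)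
  have b9 : Cw (ofMask 0x7b4200) := cw_foldr [0, 2, 5, 6] (by decide)
  have b10 : Cw (ofMask 0xb1d400) := cw_xor (cw_foldr [0, 1, 5, 6, 9, 10] (by decide)) cw_full
  have b11 : Cw (ofMask 0xe3a800) := cw_xor (cw_foldr [0, 2, 5, 9, 10] (by decide)) cw_full
  rw [enc_def]
  exact cw_xor (cw_xor (cw_xor (cw_xor (cw_sel b0 _ _) (cw_sel b1 _ _))
    (cw_xor (cw_sel b2 _ _) (cw_sel b3 _ _))) (cw_xor (cw_xor (cw_sel b4 _ _) (cw_sel b5 _ _))
    (cw_xor (cw_sel b6 _ _) (cw_sel b7 _ _)))) (cw_xor (cw_xor (cw_sel b8 _ _) (cw_sel b9 _ _))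
    (cw_xor (cw_sel b10 _ _) (cw_sel b11 _ _)))

theorem enc_toMask_of_mem {w : GolayPt → ZMod 2} (hw : w ∈ golayCode) :
    ∃ m, ofMask (enc m) = support₂ w := by
  induction hw using Submodule.span_induction with
  | mem x hx =>
    rcases hx with ⟨t, rfl⟩ | hx
    · exact ⟨qrMask t.val, by rw [enc_qrMask _ (ZMod.val_lt t), support_qrWord]⟩
    · rw [Set.mem_singleton_iff.1 hx]
      refine ⟨0xfff, ?_⟩
      have : enc 0xfff = 0xffffff := by decide
      rw [this, ofMask_full]; ext p; simp [support₂]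
  | zero => exact ⟨0, by
      have : enc 0 = 0 := by decide
      rw [this, ofMask_zero]; ext p; simp [support₂]⟩
  | add x y _ _ hx hy =>
    obtain ⟨a, ha⟩ := hx
    obtain ⟨b, hb⟩ := hy
    refine ⟨a ^^^ b, ?_⟩
    rw [enc_xor, ofMask_xor, ha, hb, ← support_wd (_ ∆ _), wd_symmDiff, wd_support, wd_support]
  | smul c x _ hx =>
    have : c = 0 ∨ c = 1 := by revert c; decide
    rcases this with rfl | rfl
    · exact ⟨0, by
        have : enc 0 = 0 := by decide
        rw [this, ofMask_zero]; ext p; simp [support₂]⟩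
    · rwa [one_smul]

theorem Cw.exists_enc {s : Finset GolayPt} (h : Cw s) : ∃ m < 4096, ofMask (enc m) = s := by
  obtain ⟨w, hw, rfl⟩ := h
  obtain ⟨m, hm⟩ := enc_toMask_of_mem hw
  exact ⟨m % 4096, Nat.mod_lt _ (by norm_num), by rw [enc_mod, hm]⟩

theorem cw_iff_exists {s : Finset GolayPt} : Cw s ↔ ∃ m < 4096, ofMask (enc m) = s :=
  ⟨Cw.exists_enc, fun ⟨m, _, h⟩ => h ▸ cw_enc m⟩

/-- test for a code word -/
def isCw (x : ℕ) : Bool := Nat.beq (enc x) x

theorem cw_of_isCw {x : ℕ} (h : isCw x = true) : Cw (ofMask x) := by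
  unfold isCw at h; rw [Nat.beq_eq] at h; rw [← h]; exact cw_enc x

theorem isCw_lt {x : ℕ} (h : isCw x = true) : x < 2 ^ 24 := by
  unfold isCw at h; rw [Nat.beq_eq] at h; rw [← h]; exact enc_lt x

theorem isCw_of_cw {x : ℕ} (hx : x < 2 ^ 24) (h : Cw (ofMask x)) : isCw x = true := by
  obtain ⟨m, _, e⟩ := h.exists_enc
  have := ofMask_inj (enc_lt m) hx e
  unfold isCw
  rw [Nat.beq_eq, ← this, enc_enc]

theorem isCw_iff {x : ℕ} (hx : x < 2 ^ 24) : isCw x = true ↔ Cw (ofMask x) :=
  ⟨cw_of_isCw, isCw_of_cw hx⟩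

theorem Cw.card {s : Finset GolayPt} (h : Cw s) :
    s = ∅ ∨ s.card = 8 ∨ s.card = 12 ∨ s.card = 16 ∨ s = Finset.univ := by
  obtain ⟨m, _, rfl⟩ := h.exists_enc
  rw [card_ofMask]
  rcases (enc_facts' m).2.2 with h | h | h | h | h
  · tauto
  · tauto
  · tauto
  · rw [h, ofMask_zero]; tauto
  · rw [h, ofMask_full]; tauto

theorem Cw.card' {s : Finset GolayPt} (h : Cw s) :
    s.card = 0 ∨ s.card = 8 ∨ s.card = 12 ∨ s.card = 16 ∨ s.card = 24 := by
  rcases h.card with h | h | h | h | h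
  · rw [h]; simp
  · tauto
  · tauto
  · tauto
  · rw [h, Finset.card_univ, card_pt]; tauto

theorem card_symmDiff_add (s t : Finset GolayPt) :
    (s ∆ t).card + 2 * (s ∩ t).card = s.card + t.card := by
  have h1 : s ∆ t = (s ∪ t) \ (s ∩ t) := by
    ext p; simp [Finset.mem_symmDiff]; tauto
  have h2 := Finset.card_sdiff_add_card_eq_card
    (show s ∩ t ⊆ s ∪ t from Finset.inter_subset_union)
  have h3 := Finset.card_union_add_card_inter s t
  rw [h1]; omega

theorem Cw.even_inter {s t : Finset GolayPt} (hs : Cw s) (ht : Cw t) : (s ∩ t).card % 2 = 0 := by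
  have h1 := card_symmDiff_add s t
  have := hs.card'; have := ht.card'; have := (hs.symmDiff ht).card'
  omega

theorem Cw.eq_of_small {s t : Finset GolayPt} (hs : Cw s) (ht : Cw t) (h : (s ∆ t).card < 8) :
    s = t := by
  have := (hs.symmDiff ht).card'
  have h0 : (s ∆ t).card = 0 := by omega
  rw [Finset.card_eq_zero] at h0
  exact symmDiff_eq_bot.1 h0

theorem octad_inter {s t : Finset GolayPt} (hs : s ∈ octads) (ht : t ∈ octads) :
    s = t ∨ (s ∩ t).card = 0 ∨ (s ∩ t).card = 2 ∨ (s ∩ t).card = 4 := by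
  by_cases h : s = t
  · exact Or.inl h
  right
  have h1 := card_symmDiff_add s t
  have h2 : ¬ (s ∆ t).card < 8 := fun hc => h (Cw.eq_of_small hs.1 ht.1 hc)
  have := Cw.even_inter hs.1 ht.1
  have := hs.2; have := ht.2
  omega

theorem octad_eq_of_five {s t : Finset GolayPt} (hs : s ∈ octads) (ht : t ∈ octads)
    (h : 5 ≤ (s ∩ t).card) : s = t := by
  rcases octad_inter hs ht with h1 | h1 | h1 | h1
  · exact h1
  all_goals omega

/-! ### Counting code words -/

/-- number of `i < n` with `p i` -/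
noncomputable def cntN (n : ℕ) (p : ℕ → Bool) : ℕ :=
  Nat.rec (motive := fun _ => ℕ → ℕ) (fun a => a)
    (fun i ih a => iteB (p i) (force (Nat.succ a) ih) (ih a)) n 0

theorem cntN_eq (n : ℕ) (p : ℕ → Bool) :
    cntN n p = ((Finset.range n).filter fun i => p i = true).card := by
  have : ∀ a, Nat.rec (motive := fun _ => ℕ → ℕ) (fun a => a)
      (fun i ih a => iteB (p i) (force (Nat.succ a) ih) (ih a)) n a =
      a + ((Finset.range n).filter fun i => p i = true).card := by
    induction n with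
    | zero => intro a; simp
    | succ n ih =>
      intro a
      show iteB (p n) (force (Nat.succ a) _) _ = _
      rw [force_eq, ih, ih, Finset.range_add_one, Finset.filter_insert]
      cases h : p n
      · simp
      · rw [if_pos rfl, Finset.card_insert_of_notMem (by simp), iteB_true]; omega
  unfold cntN
  rw [this]; simp

/-- counting code words with a property by running over the information bits -/
theorem ncard_cw {P : Finset GolayPt → Prop} {p : ℕ → Bool}
    (h : ∀ m < 4096, P (ofMask (enc m)) ↔ p (enc m) = true) :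
    {s | Cw s ∧ P s}.ncard = cntN 4096 (fun m => force (enc m) p) := by
  rw [cntN_eq, ← Set.ncard_coe_finset,
    ← Set.InjOn.ncard_image (f := fun m => ofMask (enc m))]
  · congr 1
    ext s
    simp only [Set.mem_ofPred_eq, Finset.coe_filter, Finset.mem_range, Set.mem_image, force_eq]
    constructor
    · rintro ⟨h1, h2⟩
      obtain ⟨m, hm, rfl⟩ := h1.exists_enc
      exact ⟨m, ⟨hm, (h m hm).1 h2⟩, rfl⟩
    · rintro ⟨m, ⟨hm, h1⟩, rfl⟩
      exact ⟨cw_enc m, (h m hm).2 h1⟩
  · intro a ha b hb e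
    simp only [Finset.coe_filter, Finset.mem_range, Set.mem_ofPred_eq] at ha hb
    exact enc_inj ha.1 hb.1 (ofMask_inj (enc_lt a) (enc_lt b) e)

theorem ncard_octads : octads.ncard = 759 := by
  have := ncard_cw (P := fun s => s.card = 8) (p := fun x => Nat.beq (pc x) 8)
    (fun m _ => by rw [card_ofMask, Nat.beq_eq])
  exact this.trans (by decide +kernel)

theorem ncard_dodecads : dodecads.ncard = 2576 := by
  have := ncard_cw (P := fun s => s.card = 12) (p := fun x => Nat.beq (pc x) 12)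
    (fun m _ => by rw [card_ofMask, Nat.beq_eq])
  exact this.trans (by decide +kernel)

theorem ncard_cw_all : {s | Cw s}.ncard = 4096 := by
  have := ncard_cw (P := fun _ => True) (p := fun _ => true) (fun m _ => by simp)
  simp only [and_true] at this
  exact this.trans (by decide +kernel)

/-! ### The group -/

theorem mem_M24 {g : Equiv.Perm GolayPt} : g ∈ M24 ↔ ∀ s, Cw (g • s) ↔ Cw s := by
  rw [MulAction.mem_stabilizer_iff]
  constructor
  · intro h s
    unfold Cw
    conv_lhs => rw [← h]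
    exact Set.smul_mem_smul_set_iff
  · intro h
    ext s
    rw [Set.mem_smul_set_iff_inv_smul_mem]
    have := h (g⁻¹ • s)
    rw [smul_inv_smul] at this
    exact this.symm

theorem mem_M24_of {g : Equiv.Perm GolayPt} (h : ∀ s, Cw s → Cw (g • s)) : g ∈ M24 := by
  rw [MulAction.mem_stabilizer_iff]
  apply Set.eq_of_subset_of_ncard_le _ _ (Set.toFinite _)
  · rintro _ ⟨s, hs, rfl⟩; exact h s hs
  · rw [Set.ncard_smul_set]

theorem Cw.smul {g : Equiv.Perm GolayPt} (hg : g ∈ M24) {s : Finset GolayPt} (hs : Cw s) :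
    Cw (g • s) := (mem_M24.1 hg s).2 hs

theorem smul_mem_octads {g : Equiv.Perm GolayPt} (hg : g ∈ M24) {s : Finset GolayPt} :
    g • s ∈ octads ↔ s ∈ octads := by
  rw [mem_octads, mem_octads, mem_M24.1 hg, Finset.card_smul_finset]

theorem smul_mem_dodecads {g : Equiv.Perm GolayPt} (hg : g ∈ M24) {s : Finset GolayPt} :
    g • s ∈ dodecads ↔ s ∈ dodecads := by
  rw [mem_dodecads, mem_dodecads, mem_M24.1 hg, Finset.card_smul_finset]

theorem mem_smul_iff {g : Equiv.Perm GolayPt} {s : Finset GolayPt} {p : GolayPt} :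
    p ∈ g • s ↔ g⁻¹ p ∈ s := Finset.inv_smul_mem_iff.symm

theorem apply_mem_smul {g : Equiv.Perm GolayPt} {s : Finset GolayPt} {p : GolayPt} :
    g p ∈ g • s ↔ p ∈ s := by rw [mem_smul_iff]; simp

theorem smul_symmDiff' (g : Equiv.Perm GolayPt) (s t : Finset GolayPt) :
    g • (s ∆ t) = (g • s) ∆ (g • t) := by
  ext p; simp [mem_smul_iff, Finset.mem_symmDiff]

theorem smul_compl' (g : Equiv.Perm GolayPt) (s : Finset GolayPt) : g • sᶜ = (g • s)ᶜ := by
  ext p; simp [mem_smul_iff]

theorem smul_inter' (g : Equiv.Perm GolayPt) (s t : Finset GolayPt) :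
    g • (s ∩ t) = (g • s) ∩ (g • t) := by
  ext p; simp [mem_smul_iff]

theorem smul_union' (g : Equiv.Perm GolayPt) (s t : Finset GolayPt) :
    g • (s ∪ t) = (g • s) ∪ (g • t) := by
  ext p; simp [mem_smul_iff]

/-- a permutation mapping the twelve basic words to code words preserves the code -/
theorem mem_M24_of_basis {g : Equiv.Perm GolayPt}
    (h : ∀ j < 12, Cw (g • ofMask (enc (2 ^ j)))) : g ∈ M24 := by
  apply mem_M24_of
  intro s hs
  obtain ⟨m, _, rfl⟩ := hs.exists_enc
  have h0 : ∀ j b, Cw (g • ofMask b) → Cw (g • ofMask (sel m j b)) := by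
    intro j b hb
    rw [sel_eq]; split_ifs
    · exact hb
    · rw [ofMask_zero, Finset.smul_finset_empty]; exact cw_empty
  have hx : ∀ a b, Cw (g • ofMask a) → Cw (g • ofMask b) → Cw (g • ofMask (a ^^^ b)) := by
    intro a b ha hb
    rw [ofMask_xor, smul_symmDiff']; exact ha.symmDiff hb
  have e : ∀ j < 12, ∀ b, enc (2 ^ j) = b → Cw (g • ofMask (sel m j b)) :=
    fun j hj b hb => h0 j b (hb ▸ h j hj)
  rw [enc_def]
  exact hx _ _ (hx _ _ (hx _ _ (hx _ _ (e 0 (by norm_num) _ (by decide))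
    (e 1 (by norm_num) _ (by decide)))
    (hx _ _ (e 2 (by norm_num) _ (by decide)) (e 3 (by norm_num) _ (by decide))))
    (hx _ _ (hx _ _ (e 4 (by norm_num) _ (by decide)) (e 5 (by norm_num) _ (by decide)))
    (hx _ _ (e 6 (by norm_num) _ (by decide)) (e 7 (by norm_num) _ (by decide)))))
    (hx _ _ (hx _ _ (e 8 (by norm_num) _ (by decide)) (e 9 (by norm_num) _ (by decide)))
    (hx _ _ (e 10 (by norm_num) _ (by decide)) (e 11 (by norm_num) _ (by decide))))

end Cfsg.Agent.Golay
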