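import Cfsg.Agent.Lib.Golay.Basic
import Cfsg.Agent.Lib.Golay.P24.Main

/-!
`M24`: link with networks, order, five-fold transitivity, the Steiner system of octads.
-/

set_option autoImplicit false

namespace Cfsg.Agent.Golay

open Cfsg Cfsg.Agent.PG Equiv
open scoped Pointwise symmDiff

/-- the numbers of the points -/
def I24 : Set ℕ := {i | i < 24}

theorem inv_lt_iff {σ : Perm ℕ} (h : ∀ i, σ i < 24 ↔ i < 24) (i : ℕ) : σ⁻¹ i < 24 ↔ i < 24 := by
  rw [← h (σ⁻¹ i)]; simp

open Classical in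
/-- the permutation of the points induced by a permutation of `ℕ` -/
noncomputable def toG (σ : Perm ℕ) : Perm GolayPt :=
  if h : ∀ i, σ i < 24 ↔ i < 24 then
    { toFun := fun p => pt (σ (idx p))
      invFun := fun p => pt (σ⁻¹ (idx p))
      left_inv := fun p => by
        simp only
        rw [idx_pt _ ((h _).2 (idx_lt p))]; simp [pt_idx]
      right_inv := fun p => by
        simp only
        rw [idx_pt _ ((inv_lt_iff h _).2 (idx_lt p))]; simp [pt_idx] }
  else 1

/-- `g` acts on the points as `σ` on their numbers -/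
abbrev Lk (g : Perm GolayPt) (σ : Perm ℕ) : Prop := Acts pt I24 g σ

theorem lk_toG {σ : Perm ℕ} (h : ∀ i, σ i < 24 ↔ i < 24) : Lk (toG σ) σ := by
  refine ⟨h, fun i hi => ?_⟩
  unfold toG
  rw [dif_pos h]
  show pt (σ (idx (pt i))) = _
  rw [idx_pt i hi]

theorem Lk.apply {g : Perm GolayPt} {σ : Perm ℕ} (h : Lk g σ) (p : GolayPt) :
    g p = pt (σ (idx p)) := by
  have := h.2 (idx p) (idx_lt p)
  rwa [pt_idx] at this

theorem Lk.idx {g : Perm GolayPt} {σ : Perm ℕ} (h : Lk g σ) (p : GolayPt) :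
    idx (g p) = σ (idx p) := by
  rw [h.apply, idx_pt _ ((h.1 _).2 (idx_lt p))]

theorem Lk.eq_toG {g : Perm GolayPt} {σ : Perm ℕ} (h : Lk g σ) : g = toG σ := by
  ext1 p; rw [h.apply, (lk_toG h.1).apply]

theorem Lk.smul_ofMask {g : Perm GolayPt} {σ : Perm ℕ} (h : Lk g σ) {v v' : ℕ}
    (hv : ∀ i < 24, v'.testBit i = v.testBit (σ i)) : g • ofMask v' = ofMask v := by
  ext p
  rw [mem_smul_iff, mem_ofMask, mem_ofMask, hv _ (idx_lt _), ← h.idx]; simp

/-- the networks preserve the points and the code -/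
noncomputable def m24OK (A : List Net) : Bool :=
  andB (Nat.ble A.length 128) <| allL (kgens A 0) fun l =>
    andB (Nat.beq (papp1 A l 0xffffff) 0xffffff)
      (allN 12 fun j => isCw (papp1 A l (enc (Nat.shiftLeft 1 j))))

/-- pairs of an element of `M24` and a permutation of `ℕ` acting in the same way -/
noncomputable def E24 : Subgroup (Perm GolayPt × Perm ℕ) := actsSub pt I24 ⊓ M24.prod ⊤

theorem mem_E24 {g : Perm GolayPt} {σ : Perm ℕ} : (g, σ) ∈ E24 ↔ Lk g σ ∧ g ∈ M24 := by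
  simp only [E24, Subgroup.mem_inf, Subgroup.mem_prod, Subgroup.mem_top, and_true]; rfl

theorem testBit_full (i : ℕ) : Nat.testBit 0xffffff i = true ↔ i < 24 := by
  rw [show 0xffffff = 2 ^ 24 - 1 from rfl, Nat.testBit_two_pow_sub_one]; simp

theorem gp_E24 {N : ℕ} {A : List Net} (hA : okA N A = true) (h : m24OK A = true) (j : ℕ) :
    (toG (gp A j), gp A j) ∈ E24 := by
  unfold m24OK at h
  simp only [andB_eq, Bool.and_eq_true, Nat.ble_eq] at h
  by_cases hj : j < A.length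
  · have h1 := allL_spec h.2 [gw j] (List.mem_map.2 ⟨j, by rw [List.mem_range'_1]; omega, rfl⟩)
    simp only [Bool.and_eq_true, Nat.beq_eq] at h1
    have e : pp A [gw j] = gp A j := by rw [pp_cons, pp_nil, mul_one, sp_gw A (by omega)]
    have h2 : ∀ i, gp A j i < 24 ↔ i < 24 := by
      intro i
      rw [← testBit_full, ← testBit_full, ← e, ← testBit_papp1 hA, h1.1]
    refine mem_E24.2 ⟨lk_toG h2, ?_⟩
    rw [← Subgroup.inv_mem_iff]
    apply mem_M24_of_basis
    intro k hk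
    have h3 := cw_of_isCw (allN_spec h1.2 k hk)
    have h4 := (lk_toG h2).smul_ofMask (v := enc (Nat.shiftLeft 1 k))
      (v' := papp1 A [gw j] (enc (Nat.shiftLeft 1 k))) (fun i _ => by rw [testBit_papp1 hA, e])
    have h5 : Nat.shiftLeft 1 k = 2 ^ k := Nat.one_shiftLeft k
    rw [← h5, ← h4, inv_smul_smul]
    exact h3
  · rw [gp_of_le (by omega), ← Lk.eq_toG (Acts.one pt I24)]
    exact E24.one_mem

theorem mem_of_K {A : List Net} {E : Subgroup (Perm GolayPt × Perm ℕ)} (hE : E ≤ E24) {t : ℕ}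
    (h : ∀ j, t ≤ j → j < A.length → (toG (gp A j), gp A j) ∈ E) {σ : Perm ℕ}
    (hσ : σ ∈ K A t) : (toG σ, σ) ∈ E := by
  have : K A t ≤ E.map (MonoidHom.snd _ _) := K_le fun j h1 h2 => ⟨_, h j h1 h2, rfl⟩
  obtain ⟨⟨g, _⟩, h1, rfl⟩ := this hσ
  have := (mem_E24.1 (hE h1)).1.eq_toG
  simp only [MonoidHom.coe_snd]
  rwa [← this]

theorem K_E24 {N : ℕ} {A : List Net} (hA : okA N A = true) (h : m24OK A = true) {t : ℕ}
    {σ : Perm ℕ} (hσ : σ ∈ K A t) : Lk (toG σ) σ ∧ toG σ ∈ M24 :=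
  mem_E24.1 (mem_of_K le_rfl (fun j _ _ => gp_E24 hA h j) hσ)

theorem pp_mem_K0 (A : List Net) (l : List ℕ) : pp A l ∈ K A 0 := by
  have := pp_rel (A := A) (γ := gp A) (E := (⊤ : Subgroup (Perm ℕ)).prod (K A 0))
    (fun j => ⟨trivial, gp_mem_K A (Nat.zero_le j)⟩) l
  exact this.2

/-! ### Rigidity -/

theorem fix_octad {g : Perm GolayPt} (hg : g ∈ M24) {F : Finset GolayPt} (hF : ∀ p ∈ F, g p = p)
    {o : Finset GolayPt} (ho : o ∈ octads) (h5 : 5 ≤ (o ∩ F).card) : g • o = o := by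
  apply octad_eq_of_five ((smul_mem_octads hg).2 ho) ho
  refine h5.trans (Finset.card_le_card fun p hp => ?_)
  rw [Finset.mem_inter] at hp ⊢
  refine ⟨?_, hp.1⟩
  rw [← hF p hp.2, apply_mem_smul]; exact hp.1

/-- the points not separated from `p` by the listed sets -/
noncomputable def cand (Os : List ℕ) (p : ℕ) : ℕ :=
  List.rec (motive := fun _ => ℕ) 0xffffff
    (fun o _ ih => Nat.land (iteB (bit o p) o (Nat.xor o 0xffffff)) ih) Os

theorem mem_cand {g : Perm GolayPt} {Os : List ℕ} (h : ∀ o ∈ Os, g • ofMask o = ofMask o)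
    (p : GolayPt) : g p ∈ ofMask (cand Os (idx p)) := by
  induction Os with
  | nil => show g p ∈ ofMask 0xffffff; rw [ofMask_full]; exact Finset.mem_univ _
  | cons o Os ih =>
    have e : cand (o :: Os) (idx p) =
      (iteB (bit o (idx p)) o (o ^^^ 0xffffff)) &&& cand Os (idx p) := rfl
    rw [e, ofMask_and, Finset.mem_inter]
    refine ⟨?_, ih fun a ha => h a (List.mem_cons_of_mem _ ha)⟩
    have h1 : g p ∈ ofMask o ↔ p ∈ ofMask o := by
      conv_lhs => rw [← h o List.mem_cons_self]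
      exact apply_mem_smul
    rw [bit_eq]
    cases hb : o.testBit (idx p)
    · rw [iteB_false, ofMask_compl, Finset.mem_compl, h1, mem_ofMask, hb]; simp
    · rw [iteB_true, h1, mem_ofMask, hb]

/-- one round of the rigidity argument -/
noncomputable def rigidB (F : ℕ) (Os : List ℕ) (F' : ℕ) : Bool :=
  andB (allL Os fun o => andB (isCw o) (andB (Nat.beq (pc o) 8) (Nat.ble 5 (pc (Nat.land o F)))))
    (allN 24 fun p => orB (Bool.not (bit F' p)) (Nat.beq (cand Os p) (Nat.shiftLeft 1 p)))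

theorem rigid_step {g : Perm GolayPt} (hg : g ∈ M24) {F F' : ℕ} {Os : List ℕ}
    (h : rigidB F Os F' = true) (hF : ∀ p ∈ ofMask F, g p = p) : ∀ p ∈ ofMask F', g p = p := by
  unfold rigidB at h
  rw [andB_eq, Bool.and_eq_true] at h
  intro p hp
  have h1 := mem_cand (g := g) (Os := Os) (fun o ho => by
    have := allL_spec h.1 o ho
    simp only [andB_eq, Bool.and_eq_true, Nat.beq_eq, Nat.ble_eq] at this
    refine fix_octad hg hF ⟨cw_of_isCw this.1, by rw [card_ofMask, this.2.1]⟩ ?_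
    rw [← ofMask_and, card_ofMask]; exact this.2.2) p
  have h2 := allN_spec h.2 _ (idx_lt p)
  rw [orB_eq, bit_eq, mem_ofMask.1 hp] at h2
  simp only [Bool.not_true, Bool.false_or, Nat.beq_eq] at h2
  have h3 : Nat.shiftLeft 1 (idx p) = 2 ^ idx p := Nat.one_shiftLeft _
  rw [h2, h3, ofMask_two_pow (idx_lt p), Finset.mem_singleton, pt_idx] at h1
  exact h1

theorem rigid {g : Perm GolayPt} (hg : g ∈ M24) (hF : ∀ p ∈ ofMask 0xbf, g p = p) : g = 1 := by
  have h1 := rigid_step hg (F := 0xbf) (F' := 0xffebff) (Os := [0x293e, 0x20ab9, 0x1440ba,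
    0x2082ae, 0x21007b, 0xc0237, 0x4200f6, 0x2060b5, 0x149f]) (by decide +kernel) hF
  have h2 := rigid_step hg (F := 0xffebff) (F' := 0xffffff) (Os := [0x149f, 0x7b42, 0x3886c,
    0xc0237, 0x3540c1, 0x51a610]) (by decide +kernel) h1
  ext1 p
  exact h2 p (by rw [ofMask_full]; exact Finset.mem_univ _)

/-! ### The chain on the points -/

theorem p24_ok : m24OK P24.A = true := by decide +kernel

/-- move the point `b` to any point of `O` by an element fixing the points of `F` -/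
theorem p24_move {t b r O F : ℕ} (hb : b < 24)
    (h : andB (subB O (korb P24.A t b r)) (allN 24 fun i => orB (Bool.not (bit F i))
      (invB P24.A (kgens P24.A t) (Nat.shiftLeft 1 i))) = true) {q : GolayPt} (hq : q ∈ ofMask O) :
    ∃ σ ∈ K P24.A 0, toG σ (pt b) = q ∧ ∀ p ∈ ofMask F, toG σ p = p := by
  rw [andB_eq, Bool.and_eq_true] at h
  obtain ⟨σ, hσ, j, hj, e⟩ := reach_orb P24.hA (kgens_mem (by decide) t) r _ _
    (subB_spec h.1 (mem_ofMask.1 hq))
  rw [testBit_shl_one] at hj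
  subst hj
  have hl := (K_E24 P24.hA p24_ok hσ).1
  refine ⟨σ, K_mono _ (Nat.zero_le t) hσ, by rw [hl.apply, idx_pt _ hb, e, pt_idx], fun p hp => ?_⟩
  have h2 := allN_spec h.2 _ (idx_lt p)
  rw [orB_eq, bit_eq, mem_ofMask.1 hp] at h2
  simp only [Bool.not_true, Bool.false_or] at h2
  rw [hl.apply, stabB_shl.1 (K_le_stabB P24.hA (by decide) h2 hσ), pt_idx]

theorem toG_mul {N : ℕ} {A : List Net} (hA : okA N A = true) (h : m24OK A = true) {σ τ : Perm ℕ}
    (hσ : σ ∈ K A 0) (hτ : τ ∈ K A 0) : toG (σ * τ) = toG σ * toG τ :=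
  (Lk.eq_toG ((K_E24 hA h hσ).1.mul (K_E24 hA h hτ).1)).symm

theorem toG_one : toG 1 = 1 := (Lk.eq_toG (Acts.one pt I24)).symm

theorem p24_reduce {t b r O F : ℕ} (hb : b < 24)
    (h : andB (subB O (korb P24.A t b r)) (allN 24 fun i => orB (Bool.not (bit F i))
      (invB P24.A (kgens P24.A t) (Nat.shiftLeft 1 i))) = true)
    (hO : ∀ g ∈ M24, (∀ p ∈ ofMask F, g p = p) → g (pt b) ∈ ofMask O)
    (ih : ∀ g ∈ M24, (∀ p ∈ ofMask (F ||| 2 ^ b), g p = p) → ∃ σ ∈ K P24.A 0, toG σ = g) :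
    ∀ g ∈ M24, (∀ p ∈ ofMask F, g p = p) → ∃ σ ∈ K P24.A 0, toG σ = g := by
  intro g hg hF
  obtain ⟨σ, hσ, h1, h2⟩ := p24_move hb h (hO g hg hF)
  obtain ⟨τ, hτ, h3⟩ := ih ((toG σ)⁻¹ * g)
    (M24.mul_mem (M24.inv_mem (K_E24 P24.hA p24_ok hσ).2) hg) (by
      intro p hp
      rw [ofMask_or, Finset.mem_union, ofMask_two_pow hb, Finset.mem_singleton] at hp
      rw [Perm.mul_apply, Perm.inv_eq_iff_eq]
      rcases hp with hp | hp
      · rw [hF p hp, h2 p hp]
      · rw [hp, h1])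
  exact ⟨σ * τ, Subgroup.mul_mem _ hσ hτ, by rw [toG_mul P24.hA p24_ok hσ hτ, h3]; simp⟩

theorem moved_compl {F b : ℕ} (hb : pt b ∉ ofMask F) :
    ∀ g ∈ M24, (∀ p ∈ ofMask F, g p = p) → g (pt b) ∈ ofMask (F ^^^ 0xffffff) := by
  intro g _ hF
  rw [ofMask_compl, Finset.mem_compl]
  intro hc
  have := g.injective (hF _ hc)
  rw [this] at hc
  exact hb hc

theorem octad0 : ofMask 0x149f ∈ octads :=
  ⟨cw_of_isCw (by decide +kernel), by rw [card_ofMask]; decide +kernel⟩

theorem exists_toG : ∀ g ∈ M24, ∃ σ ∈ K P24.A 0, toG σ = g := by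
  have h7 : ∀ g ∈ M24, (∀ p ∈ ofMask (0x9f ||| 2 ^ 5), g p = p) → ∃ σ ∈ K P24.A 0, toG σ = g :=
    fun g hg h => ⟨1, Subgroup.one_mem _, by rw [rigid hg h, toG_one]⟩
  have h6 := p24_reduce (t := 6) (b := 5) (r := 5) (O := 0x149f ^^^ 0xffffff) (F := 0x9f)
    (by norm_num) (by decide +kernel) (fun g hg hF => by
      have := fix_octad hg hF octad0 (by rw [← ofMask_and, card_ofMask]; decide +kernel)
      rw [ofMask_compl, Finset.mem_compl, ← this, apply_mem_smul]
      decide) h7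
  have h5 := p24_reduce (t := 5) (b := 7) (r := 5) (O := 0x149f &&& (0x1f ^^^ 0xffffff))
    (F := 0x1f) (by norm_num) (by decide +kernel) (fun g hg hF => by
      have := fix_octad hg hF octad0 (by rw [← ofMask_and, card_ofMask]; decide +kernel)
      rw [ofMask_and, Finset.mem_inter]
      refine ⟨?_, moved_compl (by decide) g hg hF⟩
      rw [← this, apply_mem_smul]
      decide) h6
  have h4 := p24_reduce (t := 4) (b := 4) (r := 5) (F := 0xf)
    (by norm_num) (by decide +kernel) (moved_compl (by decide)) h5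
  have h3 := p24_reduce (t := 3) (b := 3) (r := 5) (F := 0x7)
    (by norm_num) (by decide +kernel) (moved_compl (by decide)) h4
  have h2 := p24_reduce (t := 2) (b := 2) (r := 5) (F := 0x3)
    (by norm_num) (by decide +kernel) (moved_compl (by decide)) h3
  have h1 := p24_reduce (t := 1) (b := 1) (r := 5) (F := 0x1)
    (by norm_num) (by decide +kernel) (moved_compl (by decide)) h2
  have h0 := p24_reduce (t := 0) (b := 0) (r := 5) (F := 0)
    (by norm_num) (by decide +kernel) (moved_compl (by decide)) h1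
  intro g hg
  exact h0 g hg (by rw [ofMask_zero]; simp)

/-- the homomorphism from `K A t` to `M24` -/
noncomputable def toM24 {N : ℕ} {A : List Net} (hA : okA N A = true) (h : m24OK A = true)
    (t : ℕ) : K A t →* M24 :=
  MonoidHom.mk' (fun σ => ⟨toG σ, (K_E24 hA h σ.2).2⟩) fun σ τ =>
    Subtype.ext (toG_mul hA h (K_mono A (Nat.zero_le t) σ.2) (K_mono A (Nat.zero_le t) τ.2))

theorem toM24_injective {N : ℕ} {A : List Net} (hA : okA N A = true) (h : m24OK A = true)
    {t : ℕ} (hf : FixTriv (K A t) I24) : Function.Injective (toM24 hA h t) := by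
  rw [injective_iff_map_eq_one]
  intro σ e
  apply Subtype.ext
  apply hf _ σ.2
  intro i hi
  have h1 : toG σ = 1 := congrArg Subtype.val e
  have := (K_E24 hA h σ.2).1.idx (pt i)
  rw [h1, idx_pt i hi] at this
  rw [← this]; exact idx_pt i hi

theorem card_M24 : Nat.card M24 = 244823040 := by
  rw [← P24.card0]
  refine (Nat.card_eq_of_bijective (toM24 P24.hA p24_ok 0) ⟨toM24_injective _ _ ?_, ?_⟩).symm
  · apply P24.fixTriv0 <;> (show _ < 24; norm_num)
  · rintro ⟨g, hg⟩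
    obtain ⟨σ, hσ, e⟩ := exists_toG g hg
    exact ⟨⟨σ, hσ⟩, Subtype.ext e⟩

/-- an alphabet generating a group of the order of `M24`, faithful on the points, gives `M24` -/
theorem exists_toG_of_card {N : ℕ} {A : List Net} (hA : okA N A = true) (h : m24OK A = true)
    {t : ℕ} (hf : FixTriv (K A t) I24) (hc : Nat.card (K A t) = 244823040) :
    ∀ g ∈ M24, ∃ σ ∈ K A t, toG σ = g := by
  intro g hg
  have := ((Nat.bijective_iff_injective_and_card (toM24 hA h t)).2
    ⟨toM24_injective hA h hf, by rw [hc, card_M24]⟩).2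
  obtain ⟨σ, e⟩ := this ⟨g, hg⟩
  exact ⟨σ, σ.2, congrArg Subtype.val e⟩

/-! ### Five-fold transitivity -/

theorem extend_step {k r : ℕ} (hk : k < 24)
    (h : andB (subB ((2 ^ k - 1) ^^^ 0xffffff) (korb P24.A k k r))
      (allN 24 fun i => orB (Bool.not (bit (2 ^ k - 1) i))
      (invB P24.A (kgens P24.A k) (Nat.shiftLeft 1 i))) = true) (x : ℕ → GolayPt)
    (hx : ∀ i < k, x i ≠ x k) (ih : ∃ g ∈ M24, ∀ i < k, g (pt i) = x i) :
    ∃ g ∈ M24, ∀ i < k + 1, g (pt i) = x i := by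
  obtain ⟨g, hg, h1⟩ := ih
  have hm : ∀ p, p ∈ ofMask (2 ^ k - 1) ↔ idx p < k := by
    intro p; rw [mem_ofMask, Nat.testBit_two_pow_sub_one]; simp
  obtain ⟨σ, hσ, h2, h3⟩ := p24_move hk h (q := g⁻¹ (x k)) (by
    rw [ofMask_compl, Finset.mem_compl, hm]
    intro hc
    apply hx _ hc
    rw [← h1 _ hc, pt_idx]; simp)
  refine ⟨g * toG σ, M24.mul_mem hg (K_E24 P24.hA p24_ok hσ).2, fun i hi => ?_⟩
  rw [Perm.mul_apply]
  rcases Nat.lt_succ_iff_lt_or_eq.1 hi with h4 | h4
  · rw [h3 _ ((hm _).2 (by rw [idx_pt i (by omega)]; exact h4)), h1 i h4]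
  · rw [h4, h2]; simp

theorem five_std (x : ℕ → GolayPt) (hx : ∀ i j, i < j → j < 5 → x i ≠ x j) :
    ∃ g ∈ M24, ∀ i < 5, g (pt i) = x i :=
  extend_step (k := 4) (r := 5) (by norm_num) (by decide +kernel) x (fun i hi => hx i 4 hi (by norm_num)) <|
  extend_step (k := 3) (r := 5) (by norm_num) (by decide +kernel) x (fun i hi => hx i 3 hi (by norm_num)) <|
  extend_step (k := 2) (r := 5) (by norm_num) (by decide +kernel) x (fun i hi => hx i 2 hi (by norm_num)) <|
  extend_step (k := 1) (r := 5) (by norm_num) (by decide +kernel) x (fun i hi => hx i 1 hi (by norm_num)) <|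
  extend_step (k := 0) (r := 5) (by norm_num) (by decide +kernel) x (fun i hi => hx i 0 hi (by norm_num)) <|
  ⟨1, M24.one_mem, fun _ hi => absurd hi (Nat.not_lt_zero _)⟩

theorem five_transitive : MulAction.IsMultiplyPretransitive M24 GolayPt 5 := by
  have key : ∀ x : Fin 5 ↪ GolayPt, ∃ g ∈ M24, ∀ i : Fin 5, g (pt i) = x i := by
    intro x
    obtain ⟨g, hg, h⟩ := five_std (fun i => if h : i < 5 then x ⟨i, h⟩ else none) (by
      intro i j hij hj
      simp only [dif_pos hj, dif_pos (hij.trans hj)]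
      intro e
      have := congrArg Fin.val (x.injective e)
      simp only at this
      omega)
    exact ⟨g, hg, fun i => by rw [h i i.2, dif_pos i.2]⟩
  rw [MulAction.isMultiplyPretransitive_iff]
  intro x y
  obtain ⟨g, hg, h1⟩ := key x
  obtain ⟨g', hg', h2⟩ := key y
  refine ⟨⟨g' * g⁻¹, M24.mul_mem hg' (M24.inv_mem hg)⟩, ?_⟩
  ext1 i
  show (g' * g⁻¹) (x i) = y i
  rw [Perm.mul_apply, ← h1, ← h2]; simp

/-- every injective map on at most five points is induced by an element of `M24` -/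
theorem exists_extend (s : Finset GolayPt) (hs : s.card ≤ 5) (f : GolayPt → GolayPt)
    (hf : Set.InjOn f s) : ∃ g ∈ M24, ∀ p ∈ s, g p = f p := by
  have := five_transitive
  have h := MulAction.isMultiplyPretransitive_of_le (G := M24) (α := GolayPt) hs
    (by rw [Nat.card_eq_fintype_card, card_pt]; norm_num)
  rw [MulAction.isMultiplyPretransitive_iff] at h
  let e : Fin s.card ≃ s := s.equivFin.symm
  obtain ⟨g, hg⟩ := h ⟨fun i => e i, fun i j h => e.injective (Subtype.ext h)⟩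
    ⟨fun i => f (e i), fun i j h => e.injective (Subtype.ext (hf (e i).2 (e j).2 h))⟩
  refine ⟨g, g.2, fun p hp => ?_⟩
  have := congrArg (fun x : Fin s.card ↪ GolayPt => x (e.symm ⟨p, hp⟩)) hg
  have h2 : (g : Perm GolayPt) (e (e.symm ⟨p, hp⟩)) = f (e (e.symm ⟨p, hp⟩)) := this
  rwa [e.apply_symm_apply] at h2

theorem exists_smul_eq_of_card {s t : Finset GolayPt} (hs : s.card ≤ 5) (h : s.card = t.card) :
    ∃ g ∈ M24, g • s = t := by
  obtain ⟨f, hf⟩ := Equiv.Perm.exists_map_finset_eq s t h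
  obtain ⟨g, hg, h1⟩ := exists_extend s hs f f.injective.injOn
  refine ⟨g, hg, ?_⟩
  rw [← hf]
  ext p
  simp only [Finset.mem_smul_finset, Finset.mem_map]
  constructor
  · rintro ⟨q, hq, rfl⟩; exact ⟨q, hq, (h1 q hq).symm⟩
  · rintro ⟨q, hq, rfl⟩; exact ⟨q, hq, h1 q hq⟩

theorem exists_octad_of_card_le {s : Finset GolayPt} (hs : s.card ≤ 5) : ∃ o ∈ octads, s ⊆ o := by
  obtain ⟨t, ht, htc⟩ := Finset.exists_subset_card_eq (s := ofMask 0x149f) (n := s.card)
    (by rw [octad0.2]; omega)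
  obtain ⟨g, hg, e⟩ := exists_smul_eq_of_card (s := t) (t := s) (by omega) htc
  exact ⟨g • ofMask 0x149f, (smul_mem_octads hg).2 octad0, e ▸ Finset.smul_finset_subset_smul_finset ht⟩

theorem steiner_octads : IsSteinerSystem 5 8 octads := by
  refine ⟨fun b hb => hb.2, fun s hs => ?_⟩
  obtain ⟨o, ho, h⟩ := exists_octad_of_card_le hs.le
  refine ⟨o, ⟨ho, h⟩, fun o' ho' => octad_eq_of_five ho'.1 ho ?_⟩
  rw [← hs]; exact Finset.card_le_card (Finset.subset_inter ho'.2 h)

theorem octad_transitive {o o' : Finset GolayPt} (ho : o ∈ octads) (ho' : o' ∈ octads) :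
    ∃ g ∈ M24, g • o = o' := by
  obtain ⟨t, ht, htc⟩ := Finset.exists_subset_card_eq (s := o) (n := 5) (by rw [ho.2]; omega)
  obtain ⟨t', ht', htc'⟩ := Finset.exists_subset_card_eq (s := o') (n := 5) (by rw [ho'.2]; omega)
  obtain ⟨g, hg, e⟩ := exists_smul_eq_of_card (s := t) (t := t') (by omega) (by omega)
  refine ⟨g, hg, octad_eq_of_five ((smul_mem_octads hg).2 ho) ho' ?_⟩
  rw [← htc']
  exact Finset.card_le_card (Finset.subset_inter (e ▸ Finset.smul_finset_subset_smul_finset ht) ht')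

end Cfsg.Agent.Golay
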