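import Cfsg.Agent.Lib.Golay.Sextet
import Cfsg.Agent.Lib.PG.Model

/-!
Explicit sextets and trios; stabilisers generated by networks.
-/

set_option autoImplicit false

namespace Cfsg.Agent.Golay

open Cfsg Cfsg.Agent.PG Equiv
open scoped Pointwise

/-- the family of sets with the given masks -/
noncomputable def famOf (ts : List ℕ) : Finset (Finset GolayPt) := (ts.map ofMask).toFinset

theorem mem_famOf {ts : List ℕ} {s : Finset GolayPt} : s ∈ famOf ts ↔ ∃ t ∈ ts, ofMask t = s := by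
  simp [famOf]

theorem card_famOf {ts : List ℕ} (h : ts.Nodup) (h' : ∀ t ∈ ts, t < 2 ^ 24) :
    (famOf ts).card = ts.length := by
  rw [famOf, List.toFinset_card_of_nodup, List.length_map]
  exact h.map_on fun a ha b hb e => ofMask_inj (h' a ha) (h' b hb) e

theorem XP_eq_famOf {Lab : List (List ℕ)} {i : ℕ} {ts : List ℕ} (h : partsB Lab i ts = true) :
    XP Lab i = famOf ts := by
  ext s; rw [mem_XP_of_partsB h, mem_famOf]

theorem octad_of_mask {m : ℕ} (h : isCw m = true ∧ pc m = 8) : ofMask m ∈ octads :=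
  ⟨cw_of_isCw h.1, by rw [card_ofMask, h.2]⟩

theorem famOf_sextet {ts : List ℕ} (h : ts.length = 6 ∧ ts.Nodup ∧ (∀ t ∈ ts, t < 2 ^ 24 ∧ pc t = 4) ∧
    ∀ t ∈ ts, ∀ u ∈ ts, t ≠ u → isCw (t ||| u) = true ∧ pc (t ||| u) = 8) : famOf ts ∈ sextets := by
  refine ⟨by rw [card_famOf h.2.1 fun t ht => (h.2.2.1 t ht).1, h.1], fun s hs => ?_,
    fun s hs s' hs' hne => ?_⟩
  · obtain ⟨t, ht, rfl⟩ := mem_famOf.1 hs
    rw [card_ofMask, (h.2.2.1 t ht).2]
  · obtain ⟨t, ht, rfl⟩ := mem_famOf.1 hs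
    obtain ⟨u, hu, rfl⟩ := mem_famOf.1 hs'
    rw [← ofMask_or]
    exact octad_of_mask (h.2.2.2 t ht u hu fun e => hne (by rw [e]))

theorem famOf_trio {ts : List ℕ} (h : ts.length = 3 ∧ ts.Nodup ∧
    (∀ t ∈ ts, t < 2 ^ 24 ∧ isCw t = true ∧ pc t = 8) ∧
    ∀ t ∈ ts, ∀ u ∈ ts, t ≠ u → pc (t &&& u) = 0) : famOf ts ∈ trios := by
  refine ⟨by rw [card_famOf h.2.1 fun t ht => (h.2.2.1 t ht).1, h.1], fun s hs => ?_,
    fun s hs s' hs' hne => ?_⟩
  · obtain ⟨t, ht, rfl⟩ := mem_famOf.1 hs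
    exact octad_of_mask (h.2.2.1 t ht).2
  · obtain ⟨t, ht, rfl⟩ := mem_famOf.1 hs
    obtain ⟨u, hu, rfl⟩ := mem_famOf.1 hs'
    exact disjoint_ofMask.2 (h.2.2.2 t ht u hu fun e => hne (by rw [e]))

theorem injOn_pt : Set.InjOn pt I24 := fun _ hi _ hj e => pt_inj hi hj e

/-- a subgroup of `M24` whose order is reached by the networks from `t` on -/
theorem gen_M24 {N : ℕ} {A : List Net} (hA : okA N A = true) (hm : m24OK A = true) {t l : ℕ}
    {H : Subgroup M24} (hH : ∀ σ (hσ : σ ∈ K A t), (⟨toG σ, (K_E24 hA hm hσ).2⟩ : M24) ∈ H)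
    {lv : List (ℕ × List (List ℕ) × ℕ × ℕ)} (h : lbB A l t lv [] = true)
    (hB : ∀ q ∈ lv, q.1 < 24) (hc : Nat.card H ≤ (lv.map fun q => q.2.2.2).prod) :
    ∀ g ∈ H, ∃ σ ∈ K A t, (g : Perm GolayPt) = toG σ := by
  intro g hg
  obtain ⟨σ, hσ, e⟩ := gen_of_lb hA (G := M24) (X := pt) (B := I24) (H := H)
    (fun σ hσ => ⟨_, hH σ hσ, (K_E24 hA hm hσ).1⟩) injOn_pt h hB hc g hg
  exact ⟨σ, hσ, Lk.eq_toG e⟩

theorem K_fix {N : ℕ} {A : List Net} (hA : okA N A = true) (hl : A.length ≤ 128) {t b : ℕ}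
    (h : invB A (kgens A t) (Nat.shiftLeft 1 b) = true) : ∀ σ ∈ K A t, σ b = b :=
  fun _ hσ => stabB_shl.1 (K_le_stabB hA hl h hσ)

theorem trio_transitive {T T' : Finset (Finset GolayPt)} (hT : T ∈ trios) (hT' : T' ∈ trios)
    (h : ∀ o o' o'' : Finset GolayPt, o ∈ octads → o' ∈ octads → o'' ∈ octads →
      (o ∩ o').card = (o ∩ o'').card → ∃ g ∈ M24, g • o = o ∧ g • o' = o'') :
    ∃ g ∈ M24, g • T = T' := by
  obtain ⟨a, ha, b, hb, hab⟩ := Finset.one_lt_card.1 (show 1 < T.card by rw [hT.1]; omega)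
  obtain ⟨a', ha', b', hb', hab'⟩ := Finset.one_lt_card.1 (show 1 < T'.card by rw [hT'.1]; omega)
  obtain ⟨k, hk, rfl⟩ := octad_transitive (hT.2.1 a ha) (hT'.2.1 a' ha')
  obtain ⟨g, hg, h1, h2⟩ := h (k • a) (k • b) b' (hT'.2.1 _ ha')
    ((smul_mem_octads hk).2 (hT.2.1 b hb)) (hT'.2.1 _ hb') (by
      rw [card_smul_inter, Finset.disjoint_iff_inter_eq_empty.1 (hT.2.2 a ha b hb hab),
        Finset.disjoint_iff_inter_eq_empty.1 (hT'.2.2 _ ha' _ hb' hab')])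
  have hgk := M24.mul_mem hg hk
  refine ⟨g * k, hgk, ?_⟩
  have h3 : k • a ∈ (g * k) • T := by rw [← h1, ← mul_smul]; exact mem_smul_fam.2 ha
  have h4 : b' ∈ (g * k) • T := by rw [← h2, ← mul_smul]; exact mem_smul_fam.2 hb
  rw [trio_eq (smul_mem_trios hgk hT) h3 h4 hab', ← trio_eq hT' ha' hb' hab']

end Cfsg.Agent.Golay
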