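import Cfsg.Agent.Lib.Golay.SBData

/-!
The master list of subsets: points `[0,24)`, duads `[24,300)`, triads `[300,2324)`,
octads `[2324,3083)`, dodecads `[3083,5659)`, with three generators of `M24`.
-/

set_option autoImplicit false
set_option maxRecDepth 100000

namespace Cfsg.Agent.Golay.SB

open Cfsg Cfsg.Agent.PG Cfsg.Agent.Golay Equiv
open scoped Pointwise

theorem hm : m24OK A = true := by decide +kernel
theorem hS : subOK A S = true := by decide +kernel
theorem hl : A.length ≤ 128 := by decide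

/-- the subset with index `i` -/
noncomputable abbrev X (i : ℕ) : Finset GolayPt := XS S i

theorem act {σ : Perm ℕ} (hσ : σ ∈ K A 0) (i : ℕ) : toG σ • X i = X (σ i) := smul_XS hA hm hS hσ i

theorem mem {σ : Perm ℕ} (hσ : σ ∈ K A 0) : toG σ ∈ M24 := (K_E24 hA hm hσ).2

theorem lk {σ : Perm ℕ} (hσ : σ ∈ K A 0) : Lk (toG σ) σ := (K_E24 hA hm hσ).1

theorem X_eq {i m : ℕ} (h : Nat.beq (colVal S i) m = true) : X i = ofMask m := by
  rw [Nat.beq_eq] at h; rw [← h]; rfl

/-- blocks -/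
abbrev BDuad : ℕ := ivl 24 300
/-- blocks -/
abbrev BTriad : ℕ := ivl 300 2324
/-- blocks -/
abbrev BOct : ℕ := ivl 2324 3083
/-- blocks -/
abbrev BDod : ℕ := ivl 3083 5659

theorem inj_duad : Set.InjOn X (bset BDuad) := injOn_XS rfl (by decide +kernel)
theorem inj_triad : Set.InjOn X (bset BTriad) := injOn_XS rfl (by decide +kernel)
theorem inj_oct : Set.InjOn X (bset BOct) := injOn_XS rfl (by decide +kernel)
theorem inj_dod : Set.InjOn X (bset BDod) := injOn_XS rfl (by decide +kernel)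

theorem inv_duad : K A 0 ≤ stabB BDuad := K_le_stabB hA hl (by decide +kernel)
theorem inv_triad : K A 0 ≤ stabB BTriad := K_le_stabB hA hl (by decide +kernel)
theorem inv_oct : K A 0 ≤ stabB BOct := K_le_stabB hA hl (by decide +kernel)
theorem inv_dod : K A 0 ≤ stabB BDod := K_le_stabB hA hl (by decide +kernel)

theorem cov_duad : ∀ i ∈ bset BDuad, ∃ σ ∈ K A 0, σ 24 = i :=
  cover_K hA hl (r := 10) (by decide +kernel)
theorem cov_triad : ∀ i ∈ bset BTriad, ∃ σ ∈ K A 0, σ 300 = i :=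
  cover_K hA hl (r := 10) (by decide +kernel)
theorem cov_oct : ∀ i ∈ bset BOct, ∃ σ ∈ K A 0, σ 2324 = i :=
  cover_K hA hl (r := 10) (by decide +kernel)
theorem cov_dod : ∀ i ∈ bset BDod, ∃ σ ∈ K A 0, σ 3083 = i :=
  cover_K hA hl (r := 10) (by decide +kernel)

theorem X_duad0 : X 24 = ofMask 0x3 := X_eq (by decide +kernel)
theorem X_triad0 : X 300 = ofMask 0x7 := X_eq (by decide +kernel)
theorem X_oct0 : X 2324 = ofMask 0x149f := X_eq (by decide +kernel)
theorem X_dod0 : X 3083 = ofMask 0x6fdd := X_eq (by decide +kernel)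

theorem ncard_card (k : ℕ) : {s : Finset GolayPt | s.card = k}.ncard = Nat.choose 24 k := by
  have : {s : Finset GolayPt | s.card = k} = ↑(Finset.powersetCard k (Finset.univ : Finset GolayPt)) := by
    ext s; simp
  rw [this, Set.ncard_coe_finset, Finset.card_powersetCard, Finset.card_univ, card_pt]

theorem dodecad0 : ofMask 0x6fdd ∈ dodecads :=
  ⟨cw_of_isCw (by decide +kernel), by rw [card_ofMask]; decide +kernel⟩

theorem duads_eq : X '' bset BDuad = {s | s.card = 2} :=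
  image_eq_of_card (Set.toFinite _) (fun g _ s hs => by simpa using hs)
    (fun σ hσ => ⟨mem hσ, act hσ _⟩) cov_duad
    (by rw [X_duad0]; show _ = 2; rw [card_ofMask]; decide +kernel) inj_duad
    (by rw [ncard_card]; decide +kernel)

theorem triads_eq : X '' bset BTriad = {s | s.card = 3} :=
  image_eq_of_card (Set.toFinite _) (fun g _ s hs => by simpa using hs)
    (fun σ hσ => ⟨mem hσ, act hσ _⟩) cov_triad
    (by rw [X_triad0]; show _ = 3; rw [card_ofMask]; decide +kernel) inj_triad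
    (by rw [ncard_card]; decide +kernel)

theorem octads_eq : X '' bset BOct = octads :=
  image_eq_of_card (Set.toFinite _) (fun g hg s hs => (smul_mem_octads hg).2 hs)
    (fun σ hσ => ⟨mem hσ, act hσ _⟩) cov_oct (by rw [X_oct0]; exact octad0) inj_oct ncard_octads

theorem dodecads_eq : X '' bset BDod = dodecads :=
  image_eq_of_card (Set.toFinite _) (fun g hg s hs => (smul_mem_dodecads hg).2 hs)
    (fun σ hσ => ⟨mem hσ, act hσ _⟩) cov_dod (by rw [X_dod0]; exact dodecad0) inj_dod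
    ncard_dodecads

theorem X_pt : ∀ i < 24, X i = {pt i} := by
  have h : allN 24 (fun i => Nat.beq (colVal S i) (Nat.shiftLeft 1 i)) = true := by decide +kernel
  intro i hi
  rw [X_eq (allN_spec h i hi), ← ofMask_two_pow hi]
  congr 1; exact Nat.one_shiftLeft i

/-- members of a family are moved to listed representatives by the stabiliser of `bs` -/
theorem reps {F : Set (Finset GolayPt)} {B B' : ℕ} (hF : X '' bset B = F)
    {P : Finset GolayPt → Prop} (hP : ∀ i ∈ bset B, P (X i) → i ∈ bset B')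
    {gens : List (List ℕ)} {bs rs : List ℕ} {r : ℕ}
    (h : andB (fixB A gens bs) (coverB A gens r rs B') = true) {s : Finset GolayPt} (hs : s ∈ F)
    (hs' : P s) : ∃ a ∈ rs, ∃ g ∈ M24, (∀ b ∈ bs, g • X b = X b) ∧ g • X a = s := by
  rw [← hF] at hs
  obtain ⟨i, hi, rfl⟩ := hs
  obtain ⟨a, ha, σ, hσ, h1, h2⟩ := cover_fix hA h (hP i hi hs')
  exact ⟨a, ha, toG σ, mem hσ, fun b hb => by rw [act hσ, h1 b hb], by rw [act hσ, h2]⟩

theorem reps' {F : Set (Finset GolayPt)} {B : ℕ} (hF : X '' bset B = F)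
    {gens : List (List ℕ)} {bs rs : List ℕ} {r : ℕ}
    (h : andB (fixB A gens bs) (coverB A gens r rs B) = true) {s : Finset GolayPt} (hs : s ∈ F) :
    ∃ a ∈ rs, ∃ g ∈ M24, (∀ b ∈ bs, g • X b = X b) ∧ g • X a = s :=
  reps hF (P := fun _ => True) (fun _ hi _ => hi) h hs trivial

theorem dodecad_transitive {d d' : Finset GolayPt} (hd : d ∈ dodecads) (hd' : d' ∈ dodecads) :
    ∃ g ∈ M24, g • d = d' := by
  rw [← dodecads_eq] at hd hd'
  obtain ⟨i, hi, rfl⟩ := hd
  obtain ⟨j, hj, rfl⟩ := hd'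
  obtain ⟨σ, hσ, rfl⟩ := cov_dod i hi
  obtain ⟨τ, hτ, rfl⟩ := cov_dod j hj
  refine ⟨toG τ * (toG σ)⁻¹, M24.mul_mem (mem hτ) (M24.inv_mem (mem hσ)), ?_⟩
  rw [mul_smul, ← act hσ, inv_smul_smul, act hτ]

/-- maximality of the stabiliser of a member of a family -/
theorem coatom {F : Set (Finset GolayPt)} {B b : ℕ} (hF : X '' bset B = F)
    (hinv : ∀ g ∈ M24, ∀ y ∈ F, g • y ∈ F) (hB : K A 0 ≤ stabB B) (hb : b ∈ bset B)
    (hne : ∃ σ ∈ K A 0, X (σ b) ≠ X b) {gens gs : List (List ℕ)} {r1 r2 : ℕ}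
    (h : primB A gens gs b r1 r2 B = true) : IsCoatom (MulAction.stabilizer M24 (X b)) := by
  refine isCoatom_of_primB (G := M24) hA (fun σ hσ => ⟨⟨toG σ, mem hσ⟩, fun i _ => act hσ i⟩) hB hb
    (fun g => ?_) ?_ h
  · have : (g : Perm GolayPt) • X b ∈ X '' bset B := by
      rw [hF]; exact hinv g g.2 _ (hF ▸ ⟨b, hb, rfl⟩)
    obtain ⟨i, hi, e⟩ := this
    exact ⟨i, hi, e.symm⟩
  · obtain ⟨σ, hσ, h⟩ := hne
    exact ⟨⟨toG σ, mem hσ⟩, fun e => h (by rw [← act hσ]; exact e)⟩

end Cfsg.Agent.Golay.SB
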