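import Cfsg.Agent.Lib.Golay.Util2
import Cfsg.Prelude.Def_SporadicCombinatorics

/-!
Sextets and trios: basic structure and their numbers.
-/

set_option autoImplicit false
set_option maxRecDepth 100000

namespace Cfsg.Agent.Golay

open Cfsg Cfsg.Agent.PG Equiv Cfsg.Agent.Golay.SB
open scoped Pointwise symmDiff

theorem ncard_fiber {α β : Type*} {P : Set α} {Q : Set β} (hP : P.Finite) (hQ : Q.Finite)
    (f : α → β) (hf : ∀ x ∈ P, f x ∈ Q) {c : ℕ}
    (h : ∀ y ∈ Q, {x | x ∈ P ∧ f x = y}.ncard = c) : P.ncard = Q.ncard * c := by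
  classical
  rw [Set.ncard_eq_toFinset_card P hP, Set.ncard_eq_toFinset_card Q hQ,
    Finset.card_eq_sum_card_fiberwise (f := f) (t := hQ.toFinset) (fun x hx => by
      simpa using hf x (by simpa using hx)),
    Finset.sum_congr rfl (g := fun _ => c) (fun y hy => by
      rw [← h y (by simpa using hy), ← Set.ncard_coe_finset]
      congr 1; ext x; simp), Finset.sum_const, smul_eq_mul]

theorem ncard_octads_sup4 {t : Finset GolayPt} (ht : t.card = 4) :
    {o | o ∈ octads ∧ t ⊆ o}.ncard = 5 := by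
  obtain ⟨k, hk, rfl⟩ := exists_smul_eq_of_card (s := ofMask 0xf) (t := t) (by decide)
    (by rw [ht]; decide)
  have h : cntN 759 (fun i => force (colVal S (Nat.add 2324 i)) fun m =>
    Nat.beq (Nat.land 0xf m) 0xf) = 5 := by decide +kernel
  rw [← h, ← ncard_blk (lo := 2324) (n := 759) octads_eq inj_oct (P := fun x => ofMask 0xf ⊆ x)
    (fun m _ _ => by rw [ofMask_subset_iff (by norm_num), Nat.beq_eq]; rfl)]
  exact ncard_eq_smul k fun y => by
    simp only [Set.mem_ofPred_eq, smul_mem_octads hk, smul_subset_smul']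

theorem ncard_octads_disjoint {o : Finset GolayPt} (ho : o ∈ octads) :
    {x | x ∈ octads ∧ Disjoint o x}.ncard = 30 := by
  obtain ⟨k, hk, rfl⟩ := std_oct ho
  have h : cntN 759 (fun i => force (colVal S (Nat.add 2324 i)) fun m =>
    Nat.beq (pc (Nat.land 0x149f m)) 0) = 30 := by decide +kernel
  rw [← h, ← ncard_blk (lo := 2324) (n := 759) octads_eq inj_oct (P := fun x => Disjoint (X 2324) x)
    (fun m _ _ => by rw [X_oct0, disjoint_iff'])]
  exact ncard_eq_smul k fun y => by
    simp only [Set.mem_ofPred_eq, smul_mem_octads hk, disjoint_smul']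

theorem inter_eq_of_sup4 {t o o' : Finset GolayPt} (ht : t.card = 4) (ho : o ∈ octads)
    (ho' : o' ∈ octads) (h : t ⊆ o) (h' : t ⊆ o') (hne : o ≠ o') : o ∩ o' = t := by
  have h1 := Finset.subset_inter h h'
  have h2 := Finset.card_le_card h1
  rcases octad_inter ho ho' with h3 | h3 | h3 | h3
  · exact absurd h3 hne
  · omega
  · omega
  · exact (Finset.eq_of_subset_of_card_le h1 (by omega)).symm

open Classical in
/-- the sextet of a tetrad -/
noncomputable def sextetOf (t : Finset GolayPt) : Finset (Finset GolayPt) :=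
  insert t ((Finset.univ.filter fun o => o ∈ octads ∧ t ⊆ o).image fun o => o \ t)

theorem mem_sextetOf {t u : Finset GolayPt} :
    u ∈ sextetOf t ↔ u = t ∨ ∃ o ∈ octads, t ⊆ o ∧ o \ t = u := by
  simp [sextetOf, and_assoc]

theorem card_sextetOf {t : Finset GolayPt} (ht : t.card = 4) : (sextetOf t).card = 6 := by
  classical
  unfold sextetOf
  rw [Finset.card_insert_of_notMem, Finset.card_image_of_injOn]
  · have := ncard_octads_sup4 ht
    rw [← Set.ncard_coe_finset, Finset.coe_filter]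
    simp only [Finset.mem_univ, true_and]
    rw [this]
  · intro o ho o' ho' e
    simp only [Finset.coe_filter, Finset.mem_univ, true_and, Set.mem_ofPred_eq] at ho ho'
    have e' : o \ t = o' \ t := e
    rw [← Finset.sdiff_union_of_subset ho.2, e', Finset.sdiff_union_of_subset ho'.2]
  · simp only [Finset.mem_image, Finset.mem_filter, Finset.mem_univ, true_and, not_exists, not_and]
    intro o _ e
    obtain ⟨p, hp⟩ := Finset.card_pos.1 (show 0 < t.card by omega)
    have := hp
    rw [← e, Finset.mem_sdiff] at this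
    exact this.2 hp

theorem self_mem_sextetOf (t : Finset GolayPt) : t ∈ sextetOf t := mem_sextetOf.2 (Or.inl rfl)

theorem sextetOf_mem {t : Finset GolayPt} (ht : t.card = 4) : sextetOf t ∈ sextets := by
  refine ⟨card_sextetOf ht, fun u hu => ?_, fun u hu v hv hne => ?_⟩
  · rcases mem_sextetOf.1 hu with rfl | ⟨o, ho, h, rfl⟩
    · exact ht
    · rw [Finset.card_sdiff_of_subset h, ho.2, ht]
  · rcases mem_sextetOf.1 hu with rfl | ⟨o, ho, h, rfl⟩ <;>
      rcases mem_sextetOf.1 hv with rfl | ⟨o', ho', h', rfl⟩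
    · exact absurd rfl hne
    · rwa [Finset.union_sdiff_of_subset h']
    · rwa [Finset.sdiff_union_of_subset h]
    · have h1 := inter_eq_of_sup4 ht ho ho' h h' (fun e => hne (by rw [e]))
      have h2 : o \ t ∪ o' \ t = o ∆ o' := by
        rw [← h1]; ext p; simp [Finset.mem_symmDiff]
      rw [h2]
      refine ⟨Cw.symmDiff ho.1 ho'.1, ?_⟩
      have := card_symmDiff_add o o'
      rw [h1, ho.2, ho'.2, ht] at this
      omega

theorem sextet_disjoint {S : Finset (Finset GolayPt)} (hS : S ∈ sextets) {t u : Finset GolayPt}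
    (ht : t ∈ S) (hu : u ∈ S) (hne : t ≠ u) : Disjoint t u := by
  rw [← Finset.card_union_eq_card_add_card, (hS.2.2 t ht u hu hne).2, hS.2.1 t ht, hS.2.1 u hu]

theorem eq_sextetOf {S : Finset (Finset GolayPt)} (hS : S ∈ sextets) {t : Finset GolayPt}
    (ht : t ∈ S) : S = sextetOf t := by
  apply Finset.eq_of_subset_of_card_le _ (by rw [card_sextetOf (hS.2.1 t ht), hS.1])
  intro u hu
  rw [mem_sextetOf]
  by_cases h : u = t
  · exact Or.inl h
  · exact Or.inr ⟨t ∪ u, hS.2.2 t ht u hu (Ne.symm h), Finset.subset_union_left,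
      Finset.union_sdiff_cancel_left (sextet_disjoint hS ht hu (Ne.symm h))⟩

theorem sextet_eq {S S' : Finset (Finset GolayPt)} (hS : S ∈ sextets) (hS' : S' ∈ sextets)
    {t : Finset GolayPt} (ht : t ∈ S) (ht' : t ∈ S') : S = S' :=
  (eq_sextetOf hS ht).trans (eq_sextetOf hS' ht').symm

theorem ncard_sextets : sextets.ncard = 1771 := by
  have h1 := ncard_fiber (P := {t : Finset GolayPt | t.card = 4}) (Q := sextets) (Set.toFinite _)
    (Set.toFinite _) sextetOf (fun t ht => sextetOf_mem ht) (c := 6) (fun S hS => by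
      rw [← hS.1, ← Set.ncard_coe_finset]
      refine congrArg _ (Set.ext fun t => ?_)
      exact ⟨fun h => h.2 ▸ self_mem_sextetOf t, fun h => ⟨hS.2.1 t h, (eq_sextetOf hS h).symm⟩⟩)
  have h3 : Nat.choose 24 4 = 10626 := by decide +kernel
  rw [ncard_card, h3] at h1
  omega

theorem mem_smul_fam {g : Perm GolayPt} {S : Finset (Finset GolayPt)} {t : Finset GolayPt} :
    g • t ∈ g • S ↔ t ∈ S := Finset.smul_mem_smul_finset_iff g

theorem smul_mem_sextets {g : Perm GolayPt} (hg : g ∈ M24) {S : Finset (Finset GolayPt)}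
    (hS : S ∈ sextets) : g • S ∈ sextets := by
  refine ⟨by rw [Finset.card_smul_finset, hS.1], fun t ht => ?_, fun t ht u hu hne => ?_⟩
  · obtain ⟨t, ht', rfl⟩ := Finset.mem_smul_finset.1 ht
    rw [Finset.card_smul_finset, hS.2.1 t ht']
  · obtain ⟨t, ht', rfl⟩ := Finset.mem_smul_finset.1 ht
    obtain ⟨u, hu', rfl⟩ := Finset.mem_smul_finset.1 hu
    rw [← smul_union', smul_mem_octads hg]
    exact hS.2.2 t ht' u hu' fun e => hne (by rw [e])

theorem sextet_transitive {S S' : Finset (Finset GolayPt)} (hS : S ∈ sextets)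
    (hS' : S' ∈ sextets) : ∃ g ∈ M24, g • S = S' := by
  obtain ⟨t, ht⟩ := Finset.card_pos.1 (show 0 < S.card by rw [hS.1]; omega)
  obtain ⟨t', ht'⟩ := Finset.card_pos.1 (show 0 < S'.card by rw [hS'.1]; omega)
  obtain ⟨g, hg, rfl⟩ := exists_smul_eq_of_card (s := t) (t := t') (by rw [hS.2.1 t ht]; omega)
    (by rw [hS.2.1 t ht, hS'.2.1 t' ht'])
  exact ⟨g, hg, sextet_eq (smul_mem_sextets hg hS) hS' (mem_smul_fam.2 ht) ht'⟩

theorem card_stab_sextet {S : Finset (Finset GolayPt)} (hS : S ∈ sextets) :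
    Nat.card (MulAction.stabilizer M24 S) = 138240 := by
  have := ncard_mul_card_stab (G := M24) S (O := sextets) fun z =>
    ⟨fun hz => (sextet_transitive hS hz).elim fun g h => ⟨⟨g, h.1⟩, h.2⟩,
      fun ⟨g, h⟩ => h ▸ smul_mem_sextets g.2 hS⟩
  rw [ncard_sextets, card_M24] at this
  omega

/-! ### Trios -/

theorem third_octad {o o' : Finset GolayPt} (ho : o ∈ octads) (ho' : o' ∈ octads)
    (h : Disjoint o o') : (o ∪ o')ᶜ ∈ octads := by
  refine ⟨Cw.compl ?_, ?_⟩
  · rw [← Finset.sup_eq_union, ← h.symmDiff_eq_sup]; exact Cw.symmDiff ho.1 ho'.1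
  · rw [Finset.card_compl, card_pt, Finset.card_union_of_disjoint h, ho.2, ho'.2]

theorem octad_ne_of_disjoint {o o' : Finset GolayPt} (ho : o ∈ octads) (h : Disjoint o o') :
    o ≠ o' := by
  rintro rfl
  have := ho.2
  rw [disjoint_self.1 h] at this
  simp at this

theorem trio_mem {o o' : Finset GolayPt} (ho : o ∈ octads) (ho' : o' ∈ octads)
    (h : Disjoint o o') : ({o, o', (o ∪ o')ᶜ} : Finset (Finset GolayPt)) ∈ trios := by
  have h3 := third_octad ho ho' h
  have d1 : Disjoint o (o ∪ o')ᶜ :=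
    Finset.disjoint_left.2 fun p hp => by simp [hp]
  have d2 : Disjoint o' (o ∪ o')ᶜ :=
    Finset.disjoint_left.2 fun p hp => by simp [hp]
  refine ⟨Finset.card_eq_three.2 ⟨_, _, _, octad_ne_of_disjoint ho h, octad_ne_of_disjoint ho d1,
    octad_ne_of_disjoint ho' d2, rfl⟩, fun x hx => ?_, fun x hx y hy hne => ?_⟩
  · simp only [Finset.mem_insert, Finset.mem_singleton] at hx
    rcases hx with rfl | rfl | rfl <;> assumption
  · simp only [Finset.mem_insert, Finset.mem_singleton] at hx hy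
    rcases hx with rfl | rfl | rfl <;> rcases hy with rfl | rfl | rfl <;>
      first | exact absurd rfl hne | assumption | (apply Disjoint.symm; assumption)

theorem trio_eq {T : Finset (Finset GolayPt)} (hT : T ∈ trios) {o o' : Finset GolayPt}
    (ho : o ∈ T) (ho' : o' ∈ T) (hne : o ≠ o') : T = {o, o', (o ∪ o')ᶜ} := by
  have hd := hT.2.2 o ho o' ho' hne
  apply Finset.eq_of_subset_of_card_le _
    (by rw [(trio_mem (hT.2.1 o ho) (hT.2.1 o' ho') hd).1, hT.1])
  intro x hx
  simp only [Finset.mem_insert, Finset.mem_singleton]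
  by_cases h1 : x = o
  · exact Or.inl h1
  by_cases h2 : x = o'
  · exact Or.inr (Or.inl h2)
  refine Or.inr (Or.inr (Finset.eq_of_subset_of_card_le (fun p hp => ?_) ?_))
  · rw [Finset.mem_compl, Finset.mem_union, not_or]
    exact ⟨Finset.disjoint_left.1 (hT.2.2 x hx o ho h1) hp,
      Finset.disjoint_left.1 (hT.2.2 x hx o' ho' h2) hp⟩
  · rw [(third_octad (hT.2.1 o ho) (hT.2.1 o' ho') hd).2, (hT.2.1 x hx).2]

theorem ncard_trios : trios.ncard = 3795 := by
  have h0 := ncard_fiber (P := {x : Finset GolayPt × Finset GolayPt |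
      x.1 ∈ octads ∧ x.2 ∈ octads ∧ Disjoint x.1 x.2}) (Q := octads) (Set.toFinite _)
    (Set.toFinite _) Prod.fst (fun x hx => hx.1) (c := 30) (fun o ho => by
      rw [← ncard_octads_disjoint ho, ← Set.InjOn.ncard_image (f := Prod.snd)]
      · refine congrArg _ (Set.ext fun x => ?_)
        exact ⟨fun ⟨a, h1, h2⟩ => h2 ▸ h1.2 ▸ h1.1.2, fun h => ⟨(o, x), ⟨⟨ho, h⟩, rfl⟩, rfl⟩⟩
      · exact fun x hx y hy e => Prod.ext (hx.2.trans hy.2.symm) e)
  have h1 := ncard_fiber (P := {x : Finset GolayPt × Finset GolayPt |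
      x.1 ∈ octads ∧ x.2 ∈ octads ∧ Disjoint x.1 x.2}) (Q := trios) (Set.toFinite _)
    (Set.toFinite _) (fun x => ({x.1, x.2, (x.1 ∪ x.2)ᶜ} : Finset (Finset GolayPt)))
    (fun x hx => trio_mem hx.1 hx.2.1 hx.2.2) (c := 6) (fun T hT => by
      have : T.offDiag.card = 6 := by rw [Finset.offDiag_card, hT.1]
      rw [← this, ← Set.ncard_coe_finset]
      refine congrArg _ (Set.ext fun x => ?_)
      rw [Finset.mem_coe, Finset.mem_offDiag]
      constructor
      · rintro ⟨h, e⟩
        exact ⟨e ▸ Finset.mem_insert_self _ _,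
          e ▸ Finset.mem_insert_of_mem (Finset.mem_insert_self _ _), octad_ne_of_disjoint h.1 h.2.2⟩
      · rintro ⟨a, b, c⟩
        exact ⟨⟨hT.2.1 _ a, hT.2.1 _ b, hT.2.2 _ a _ b c⟩, (trio_eq hT a b c).symm⟩)
  rw [ncard_octads] at h0
  omega

theorem smul_mem_trios {g : Perm GolayPt} (hg : g ∈ M24) {T : Finset (Finset GolayPt)}
    (hT : T ∈ trios) : g • T ∈ trios := by
  refine ⟨by rw [Finset.card_smul_finset, hT.1], fun t ht => ?_, fun t ht u hu hne => ?_⟩
  · obtain ⟨t, ht', rfl⟩ := Finset.mem_smul_finset.1 ht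
    exact (smul_mem_octads hg).2 (hT.2.1 t ht')
  · obtain ⟨t, ht', rfl⟩ := Finset.mem_smul_finset.1 ht
    obtain ⟨u, hu', rfl⟩ := Finset.mem_smul_finset.1 hu
    exact disjoint_smul'.2 (hT.2.2 t ht' u hu' fun e => hne (by rw [e]))

end Cfsg.Agent.Golay
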