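import Cfsg.Agent.Lib.Golay.Util

/-!
Normal forms of configurations of an octad or a dodecad and a few points.
-/

set_option autoImplicit false
set_option maxRecDepth 100000

namespace Cfsg.Agent.Golay.SB

open Cfsg Cfsg.Agent.PG Cfsg.Agent.Golay Equiv
open scoped Pointwise

theorem std_oct {o : Finset GolayPt} (ho : o ∈ octads) : ∃ k ∈ M24, k • X 2324 = o := by
  rw [X_oct0]; exact octad_transitive octad0 ho

theorem std_dod {d : Finset GolayPt} (hd : d ∈ dodecads) : ∃ k ∈ M24, k • X 3083 = d := by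
  rw [X_dod0]; exact dodecad_transitive dodecad0 hd

theorem pt_of_X {k k' : Perm GolayPt} {i : ℕ} (hi : i < 24) (h : k' • X i = k • X i) :
    k' (pt i) = k (pt i) := by
  rwa [smul_X_pt _ hi, smul_X_pt _ hi, Finset.singleton_inj] at h

theorem c_std_oct_in : andB (fixB A [[0x202040006060a00080004], [0x2060202060808000606]] [2324])
    (coverB A [[0x202040006060a00080004], [0x2060202060808000606]] 5 [0, 5] (ivl 0 24)) = true := by
  decide +kernel

theorem std_oct_in {o : Finset GolayPt} (ho : o ∈ octads) {p0 : GolayPt}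
    (h0 : p0 ∈ o)  :
    ∃ k ∈ M24, k • X 2324 = o ∧ k (pt 0) = p0 := by
  obtain ⟨k, hk, rfl⟩ := std_oct ho
  obtain ⟨k', a1, a2, a3⟩ := std_pt c_std_oct_in (a := 0) (by omega) (by decide +kernel) hk p0 (by
    rw [show ivN [2324] 0 = [1] by decide +kernel]
    simp [h0])
  exact ⟨k', a1, a2 _ (by simp), a3⟩

theorem c_std_oct_out : andB (fixB A [[0x202020a04080006], [0x206020800000400]] [2324])
    (coverB A [[0x202020a04080006], [0x206020800000400]] 5 [0, 5] (ivl 0 24)) = true := by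
  decide +kernel

theorem std_oct_out {o : Finset GolayPt} (ho : o ∈ octads) {p0 : GolayPt}
    (h0 : p0 ∉ o)  :
    ∃ k ∈ M24, k • X 2324 = o ∧ k (pt 5) = p0 := by
  obtain ⟨k, hk, rfl⟩ := std_oct ho
  obtain ⟨k', a1, a2, a3⟩ := std_pt c_std_oct_out (a := 5) (by omega) (by decide +kernel) hk p0 (by
    rw [show ivN [2324] 5 = [0] by decide +kernel]
    simp [h0])
  exact ⟨k', a1, a2 _ (by simp), a3⟩

theorem c_std_oct_in_in : andB (fixB A [[0x2040008020404000a06], [0x2020a0000000006000a06]] [2324, 0])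
    (coverB A [[0x2040008020404000a06], [0x2020a0000000006000a06]] 5 [0, 1, 5] (ivl 0 24)) = true := by
  decide +kernel

theorem std_oct_in_in {o : Finset GolayPt} (ho : o ∈ octads) {p0 p1 : GolayPt}
    (h0 : p0 ∈ o) (h1 : p1 ∈ o) (n01 : p0 ≠ p1) :
    ∃ k ∈ M24, k • X 2324 = o ∧ k (pt 0) = p0 ∧ k (pt 1) = p1 := by
  obtain ⟨k, hk, rfl, rfl⟩ := std_oct_in ho h0
  obtain ⟨k', a1, a2, a3⟩ := std_pt c_std_oct_in_in (a := 1) (by omega) (by decide +kernel) hk p1 (by
    rw [show ivN [2324, 0] 1 = [1, 0] by decide +kernel]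
    simp [h1, smul_X_pt k (show 0 < 24 by omega), n01.symm])
  exact ⟨k', a1, a2 _ (by simp), pt_of_X (by omega) (a2 _ (by simp)), a3⟩

theorem c_std_oct_in_out : andB (fixB A [[0x208020606020204020400060600], [0x20a000a02060004000a020802]] [2324, 0])
    (coverB A [[0x208020606020204020400060600], [0x20a000a02060004000a020802]] 5 [0, 1, 5] (ivl 0 24)) = true := by
  decide +kernel

theorem std_oct_in_out {o : Finset GolayPt} (ho : o ∈ octads) {p0 p1 : GolayPt}
    (h0 : p0 ∈ o) (h1 : p1 ∉ o)  :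
    ∃ k ∈ M24, k • X 2324 = o ∧ k (pt 0) = p0 ∧ k (pt 5) = p1 := by
  obtain ⟨k, hk, rfl, rfl⟩ := std_oct_in ho h0
  have n01 : k (pt 0) ≠ p1 := fun e => h1 (e ▸ h0)
  obtain ⟨k', a1, a2, a3⟩ := std_pt c_std_oct_in_out (a := 5) (by omega) (by decide +kernel) hk p1 (by
    rw [show ivN [2324, 0] 5 = [0, 0] by decide +kernel]
    simp [h1, smul_X_pt k (show 0 < 24 by omega), n01.symm])
  exact ⟨k', a1, a2 _ (by simp), pt_of_X (by omega) (a2 _ (by simp)), a3⟩

theorem c_std_dod_in : andB (fixB A [[0x2020a020208080206000004], [0x20800000608020a020400]] [3083])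
    (coverB A [[0x2020a020208080206000004], [0x20800000608020a020400]] 5 [0, 1] (ivl 0 24)) = true := by
  decide +kernel

theorem std_dod_in {o : Finset GolayPt} (ho : o ∈ dodecads) {p0 : GolayPt}
    (h0 : p0 ∈ o)  :
    ∃ k ∈ M24, k • X 3083 = o ∧ k (pt 0) = p0 := by
  obtain ⟨k, hk, rfl⟩ := std_dod ho
  obtain ⟨k', a1, a2, a3⟩ := std_pt c_std_dod_in (a := 0) (by omega) (by decide +kernel) hk p0 (by
    rw [show ivN [3083] 0 = [1] by decide +kernel]
    simp [h0])
  exact ⟨k', a1, a2 _ (by simp), a3⟩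

theorem c_std_dod_in_in : andB (fixB A [[0x20206020a020204020a0202080004020802], [0x2040000060008020804040006020804]] [3083, 0])
    (coverB A [[0x20206020a020204020a0202080004020802], [0x2040000060008020804040006020804]] 5 [0, 1, 2] (ivl 0 24)) = true := by
  decide +kernel

theorem std_dod_in_in {o : Finset GolayPt} (ho : o ∈ dodecads) {p0 p1 : GolayPt}
    (h0 : p0 ∈ o) (h1 : p1 ∈ o) (n01 : p0 ≠ p1) :
    ∃ k ∈ M24, k • X 3083 = o ∧ k (pt 0) = p0 ∧ k (pt 2) = p1 := by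
  obtain ⟨k, hk, rfl, rfl⟩ := std_dod_in ho h0
  obtain ⟨k', a1, a2, a3⟩ := std_pt c_std_dod_in_in (a := 2) (by omega) (by decide +kernel) hk p1 (by
    rw [show ivN [3083, 0] 2 = [1, 0] by decide +kernel]
    simp [h1, smul_X_pt k (show 0 < 24 by omega), n01.symm])
  exact ⟨k', a1, a2 _ (by simp), pt_of_X (by omega) (a2 _ (by simp)), a3⟩

theorem c_std_dod_in3 : andB (fixB A [[0x20206060006020402020404000800040008020a], [0x20206020204020206000802080600000a020802]] [3083, 0, 2])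
    (coverB A [[0x20206060006020402020404000800040008020a], [0x20206020204020206000802080600000a020802]] 6 [0, 1, 2, 3] (ivl 0 24)) = true := by
  decide +kernel

theorem std_dod_in3 {o : Finset GolayPt} (ho : o ∈ dodecads) {p0 p1 p2 : GolayPt}
    (h0 : p0 ∈ o) (h1 : p1 ∈ o) (h2 : p2 ∈ o) (n01 : p0 ≠ p1) (n02 : p0 ≠ p2) (n12 : p1 ≠ p2) :
    ∃ k ∈ M24, k • X 3083 = o ∧ k (pt 0) = p0 ∧ k (pt 2) = p1 ∧ k (pt 3) = p2 := by
  obtain ⟨k, hk, rfl, rfl, rfl⟩ := std_dod_in_in ho h0 h1 n01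
  obtain ⟨k', a1, a2, a3⟩ := std_pt c_std_dod_in3 (a := 3) (by omega) (by decide +kernel) hk p2 (by
    rw [show ivN [3083, 0, 2] 3 = [1, 0, 0] by decide +kernel]
    simp [h2, smul_X_pt k (show 0 < 24 by omega), n02.symm, smul_X_pt k (show 2 < 24 by omega), n12.symm])
  exact ⟨k', a1, a2 _ (by simp), pt_of_X (by omega) (a2 _ (by simp)), pt_of_X (by omega) (a2 _ (by simp)), a3⟩

theorem c_std_dod_in_out : andB (fixB A [[0x2040208000402060000000008020802], [0x20008000a02040804000006020806]] [3083, 0])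
    (coverB A [[0x2040208000402060000000008020802], [0x20008000a02040804000006020806]] 5 [0, 1, 2] (ivl 0 24)) = true := by
  decide +kernel

theorem std_dod_in_out {o : Finset GolayPt} (ho : o ∈ dodecads) {p0 p1 : GolayPt}
    (h0 : p0 ∈ o) (h1 : p1 ∉ o)  :
    ∃ k ∈ M24, k • X 3083 = o ∧ k (pt 0) = p0 ∧ k (pt 1) = p1 := by
  obtain ⟨k, hk, rfl, rfl⟩ := std_dod_in ho h0
  have n01 : k (pt 0) ≠ p1 := fun e => h1 (e ▸ h0)
  obtain ⟨k', a1, a2, a3⟩ := std_pt c_std_dod_in_out (a := 1) (by omega) (by decide +kernel) hk p1 (by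
    rw [show ivN [3083, 0] 1 = [0, 0] by decide +kernel]
    simp [h1, smul_X_pt k (show 0 < 24 by omega), n01.symm])
  exact ⟨k', a1, a2 _ (by simp), pt_of_X (by omega) (a2 _ (by simp)), a3⟩

theorem c_std_dod_in_out_out : andB (fixB A [[0x20a000408000a020402020800080008020806]] [3083, 0, 1])
    (coverB A [[0x20a000408000a020402020800080008020806]] 11 [0, 1, 2, 5] (ivl 0 24)) = true := by
  decide +kernel

theorem std_dod_in_out_out {o : Finset GolayPt} (ho : o ∈ dodecads) {p0 p1 p2 : GolayPt}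
    (h0 : p0 ∈ o) (h1 : p1 ∉ o) (h2 : p2 ∉ o) (n12 : p1 ≠ p2) :
    ∃ k ∈ M24, k • X 3083 = o ∧ k (pt 0) = p0 ∧ k (pt 1) = p1 ∧ k (pt 5) = p2 := by
  obtain ⟨k, hk, rfl, rfl, rfl⟩ := std_dod_in_out ho h0 h1
  have n02 : k (pt 0) ≠ p2 := fun e => h2 (e ▸ h0)
  obtain ⟨k', a1, a2, a3⟩ := std_pt c_std_dod_in_out_out (a := 5) (by omega) (by decide +kernel) hk p2 (by
    rw [show ivN [3083, 0, 1] 5 = [0, 0, 0] by decide +kernel]
    simp [h2, smul_X_pt k (show 0 < 24 by omega), n02.symm, smul_X_pt k (show 1 < 24 by omega), n12.symm])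
  exact ⟨k', a1, a2 _ (by simp), pt_of_X (by omega) (a2 _ (by simp)), pt_of_X (by omega) (a2 _ (by simp)), a3⟩

end Cfsg.Agent.Golay.SB
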