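import Cfsg.Agent.Lib.Golay.SB

/-!
Transport along group elements, orbits told apart by intersection numbers, counting in blocks,
stabilisers as groups `K A 0`.
-/

set_option autoImplicit false
set_option maxRecDepth 100000

namespace Cfsg.Agent.Golay

open Cfsg Cfsg.Agent.PG Equiv
open scoped Pointwise

section General

variable {G Y : Type*} [Group G] [MulAction G Y]

theorem ncard_eq_smul (g : G) {S T : Set Y} (h : ∀ y, g • y ∈ T ↔ y ∈ S) : T.ncard = S.ncard := by
  have : T = g • S := by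
    ext y
    rw [Set.mem_smul_set_iff_inv_smul_mem, ← h, smul_inv_smul]
  rw [this, Set.ncard_smul_set]

theorem conj_smul_smul (k g : G) (y : Y) : (k * g * k⁻¹) • k • y = k • g • y := by
  rw [mul_smul, inv_smul_smul, mul_smul]

theorem conj_smul_iff (k g : G) (y z : Y) : (k * g * k⁻¹) • k • y = k • z ↔ g • y = z := by
  rw [conj_smul_smul, smul_left_cancel_iff]

theorem conj_mem_stab (k g : G) (y : Y) :
    k * g * k⁻¹ ∈ MulAction.stabilizer G (k • y) ↔ g ∈ MulAction.stabilizer G y :=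
  conj_smul_iff k g y y

/-- conjugate subgroups are isomorphic -/
def conjEquiv (k : G) {H H' : Subgroup G} (h : ∀ g, k * g * k⁻¹ ∈ H' ↔ g ∈ H) : H ≃* H' where
  toFun g := ⟨k * g * k⁻¹, (h g).2 g.2⟩
  invFun g := ⟨k⁻¹ * g * k, (h _).1 (by
    have : k * (k⁻¹ * g * k) * k⁻¹ = g := by group
    rw [this]; exact g.2)⟩
  left_inv g := Subtype.ext (by simp only; group)
  right_inv g := Subtype.ext (by simp only; group)
  map_mul' g g' := Subtype.ext (by simp only [Subgroup.coe_mul]; group)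

theorem orbit_sub_eq (H : Subgroup G) (y : Y) :
    MulAction.orbit H y = {z | ∃ g ∈ H, g • y = z} := by
  ext z
  constructor
  · rintro ⟨g, rfl⟩; exact ⟨g, g.2, rfl⟩
  · rintro ⟨g, hg, rfl⟩; exact ⟨⟨g, hg⟩, rfl⟩

theorem orbit_conj (k : G) {H H' : Subgroup G} (h : ∀ g, k * g * k⁻¹ ∈ H' ↔ g ∈ H) (y : Y) :
    MulAction.orbit H' (k • y) = k • MulAction.orbit H y := by
  rw [orbit_sub_eq, orbit_sub_eq]
  ext z
  constructor
  · rintro ⟨g, hg, rfl⟩
    refine ⟨(k⁻¹ * g * k) • y, ⟨_, (h _).1 ?_, rfl⟩, ?_⟩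
    · have : k * (k⁻¹ * g * k) * k⁻¹ = g := by group
      rwa [this]
    · simp [mul_smul]
  · rintro ⟨_, ⟨g, hg, rfl⟩, rfl⟩
    exact ⟨_, (h g).2 hg, conj_smul_smul k g y⟩

/-- orbit-stabiliser inside a subgroup -/
theorem ncard_mul_card_inf (H : Subgroup G) (y : Y) {O : Set Y}
    (h : ∀ z, z ∈ O ↔ ∃ g ∈ H, g • y = z) :
    O.ncard * Nat.card ↥(H ⊓ MulAction.stabilizer G y) = Nat.card H := by
  have h1 : O = MulAction.orbit H y := by rw [orbit_sub_eq]; exact Set.ext h
  have h2 : MulAction.stabilizer H y = (H ⊓ MulAction.stabilizer G y).subgroupOf H := by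
    ext σ
    rw [MulAction.mem_stabilizer_iff, Subgroup.mem_subgroupOf, Subgroup.mem_inf]
    exact ⟨fun h => ⟨σ.2, h⟩, fun h => h.2⟩
  rw [h1, ← MulAction.index_stabilizer, ← Subgroup.index_mul_card (MulAction.stabilizer H y), h2,
    Nat.card_congr (Subgroup.subgroupOfEquivOfLe inf_le_left).toEquiv]

theorem ncard_mul_card_stab (y : Y) {O : Set Y} (h : ∀ z, z ∈ O ↔ ∃ g : G, g • y = z) :
    O.ncard * Nat.card (MulAction.stabilizer G y) = Nat.card G := by
  have := ncard_mul_card_inf (⊤ : Subgroup G) y (O := O) (by simpa using h)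
  rwa [top_inf_eq, Subgroup.card_top] at this

end General

theorem coe_smul_M24 {Y : Type*} [MulAction (Perm GolayPt) Y] (g : M24) (y : Y) :
    g • y = (g : Perm GolayPt) • y := rfl

theorem smul_singleton' (g : Perm GolayPt) (p : GolayPt) :
    g • ({p} : Finset GolayPt) = {g p} := Finset.smul_finset_singleton p

theorem smul_subset_smul' {g : Perm GolayPt} {s t : Finset GolayPt} : g • s ⊆ g • t ↔ s ⊆ t :=
  Finset.smul_finset_subset_smul_finset_iff

theorem disjoint_smul' {g : Perm GolayPt} {s t : Finset GolayPt} :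
    Disjoint (g • s) (g • t) ↔ Disjoint s t := by
  rw [Finset.disjoint_iff_inter_eq_empty, Finset.disjoint_iff_inter_eq_empty, ← smul_inter',
    Finset.smul_finset_eq_empty]

theorem card_smul_inter (g : Perm GolayPt) (s t : Finset GolayPt) :
    (g • s ∩ g • t).card = (s ∩ t).card := by rw [← smul_inter', Finset.card_smul_finset]

theorem exists_octad_smul {g : Perm GolayPt} (hg : g ∈ M24) {P Q : Finset GolayPt → Prop}
    (h : ∀ o, P (g • o) ↔ Q o) : (∃ o ∈ octads, P o) ↔ ∃ o ∈ octads, Q o := by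
  constructor
  · rintro ⟨o, ho, h1⟩
    exact ⟨g⁻¹ • o, (smul_mem_octads (M24.inv_mem hg)).2 ho, (h _).1 (by rwa [smul_inv_smul])⟩
  · rintro ⟨o, ho, h1⟩
    exact ⟨g • o, (smul_mem_octads hg).2 ho, (h _).2 h1⟩

theorem ofMask_subset {a b : ℕ} (h : a &&& b = a) : ofMask a ⊆ ofMask b := by
  rw [← h, ofMask_and]; exact Finset.inter_subset_right

theorem ofMask_subset_iff {a b : ℕ} (ha : a < 2 ^ 24) : ofMask a ⊆ ofMask b ↔ a &&& b = a := by
  refine ⟨fun h => ofMask_inj (lt_of_le_of_lt Nat.and_le_left ha) ha ?_, ofMask_subset⟩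
  rw [ofMask_and]; exact Finset.inter_eq_left.2 h

theorem ofMask_eq_iff {a b : ℕ} (ha : a < 2 ^ 24) (hb : b < 2 ^ 24) :
    ofMask a = ofMask b ↔ a = b := ⟨ofMask_inj ha hb, fun h => by rw [h]⟩

theorem disjoint_ofMask {a b : ℕ} : Disjoint (ofMask a) (ofMask b) ↔ pc (a &&& b) = 0 := by
  rw [Finset.disjoint_iff_inter_eq_empty, ← ofMask_and, ← Finset.card_eq_zero, card_ofMask]

/-- a group `K A 0` of the right order inside `H` is `H` -/
theorem exists_iso_K {N : ℕ} {A : List Net} (hA : okA N A = true) (hm : m24OK A = true)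
    {H : Subgroup M24} (hH : ∀ j < A.length, (⟨toG (gp A j), (mem_E24.1 (gp_E24 hA hm j)).2⟩ : M24) ∈ H)
    (hf : FixTriv (K A 0) I24) (hc : Nat.card H ≤ Nat.card (K A 0)) :
    ∃ e : K A 0 ≃* H, ∀ σ : K A 0, ((e σ : M24) : Perm GolayPt) = toG σ := by
  have h1 : ∀ σ : K A 0, toM24 hA hm 0 σ ∈ H := by
    intro σ
    have := (mem_of_K (E := E24 ⊓ (H.map M24.subtype).prod ⊤) inf_le_left
      (fun j _ hj => ⟨gp_E24 hA hm j, ⟨_, hH j hj, rfl⟩, trivial⟩) σ.2).2.1
    obtain ⟨g, hg, e⟩ := this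
    have : toM24 hA hm 0 σ = g := Subtype.ext e.symm
    rwa [this]
  have hi : Function.Injective ((toM24 hA hm 0).codRestrict H h1) :=
    (MonoidHom.injective_codRestrict _ _ _).2 (toM24_injective hA hm hf)
  refine ⟨MulEquiv.ofBijective _ ((Nat.bijective_iff_injective_and_card _).2 ⟨hi, ?_⟩), fun σ => rfl⟩
  exact le_antisymm (Nat.card_le_card_of_injective _ hi) hc

/-- the generator `j` maps the set `m` to the set `m'` -/
theorem toG_smul_ofMask {N : ℕ} {A : List Net} (hA : okA N A = true) (hm : m24OK A = true)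
    {l : List ℕ} {m m' : ℕ} (h : Nat.beq (Nat.land (papp1 A l m') 0xffffff) m = true) :
    toG (pp A l) • ofMask m = ofMask m' := by
  rw [Nat.beq_eq] at h
  refine (K_E24 hA hm (pp_mem_K0 A l)).1.smul_ofMask fun i hi => ?_
  rw [← h, ← testBit_papp1 hA]
  show (papp1 A l m' &&& 0xffffff).testBit i = _
  rw [Nat.testBit_and, (testBit_full i).2 hi, Bool.and_true]

namespace SB

theorem inj_pt : Set.InjOn X (bset (ivl 0 24)) := injOn_XS rfl (by decide +kernel)

theorem pts_eq : X '' bset (ivl 0 24) = {s | s.card = 1} := by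
  ext s
  constructor
  · rintro ⟨i, hi, rfl⟩
    rw [X_pt i (mem_bset_ivl.1 hi).2]; rfl
  · intro hs
    obtain ⟨p, rfl⟩ := Finset.card_eq_one.1 hs
    exact ⟨idx p, mem_bset_ivl.2 ⟨Nat.zero_le _, idx_lt p⟩, by rw [X_pt _ (idx_lt p), pt_idx]⟩

/-- intersection numbers with the sets `X b` -/
noncomputable def ivS (bs : List ℕ) (s : Finset GolayPt) : List ℕ :=
  bs.map fun b => (X b ∩ s).card

/-- intersection numbers, computed -/
noncomputable def ivN (bs : List ℕ) (a : ℕ) : List ℕ :=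
  bs.map fun b => pc (Nat.land (colVal S b) (colVal S a))

theorem ivS_X (bs : List ℕ) (a : ℕ) : ivS bs (X a) = ivN bs a := by
  unfold ivS ivN
  congr 1
  funext b
  rw [← card_ofMask]
  show _ = (ofMask (_ &&& _)).card
  rw [ofMask_and]; rfl

theorem ivS_smul {bs : List ℕ} {g : Perm GolayPt} (h : ∀ b ∈ bs, g • X b = X b)
    (s : Finset GolayPt) : ivS bs (g • s) = ivS bs s := by
  unfold ivS
  apply List.map_congr_left
  intro b hb
  conv_lhs => rw [← h b hb]
  exact card_smul_inter g _ _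

/-- orbits told apart by an invariant -/
theorem orb_inv {F : Set (Finset GolayPt)} {B : ℕ} (hF : X '' bset B = F)
    {gens : List (List ℕ)} {bs rs : List ℕ} {r : ℕ}
    (h : andB (fixB A gens bs) (coverB A gens r rs B) = true) {β : Type*}
    (f : Finset GolayPt → β) (hf : ∀ g ∈ M24, (∀ b ∈ bs, g • X b = X b) → ∀ s, f (g • s) = f s)
    {s s' : Finset GolayPt} (hs : s ∈ F) (hs' : s' ∈ F) (e : f s = f s')
    (hd : ∀ a ∈ rs, ∀ a' ∈ rs, f (X a) = f s → f (X a') = f s → a = a') :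
    ∃ g ∈ M24, (∀ b ∈ bs, g • X b = X b) ∧ g • s = s' := by
  obtain ⟨a, ha, g, hg, h1, rfl⟩ := reps' hF h hs
  obtain ⟨a', ha', g', hg', h1', rfl⟩ := reps' hF h hs'
  have := hd a ha a' ha' (hf g hg h1 _).symm (by rw [e, hf g' hg' h1'])
  subst this
  refine ⟨g' * g⁻¹, M24.mul_mem hg' (M24.inv_mem hg), fun b hb => ?_, by
    rw [mul_smul, inv_smul_smul]⟩
  rw [mul_smul, inv_smul_eq_iff.2 (h1 b hb).symm, h1' b hb]

/-- orbits told apart by intersection numbers -/
theorem orb_iv {F : Set (Finset GolayPt)} {B : ℕ} (hF : X '' bset B = F)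
    {gens : List (List ℕ)} {bs rs : List ℕ} {r : ℕ}
    (h : andB (fixB A gens bs) (coverB A gens r rs B) = true) (Q : List ℕ → Prop)
    (hd : ∀ a ∈ rs, ∀ a' ∈ rs, ivN bs a = ivN bs a' → Q (ivN bs a) → a = a')
    {s s' : Finset GolayPt} (hs : s ∈ F) (hs' : s' ∈ F) (e : ivS bs s = ivS bs s')
    (hQ : Q (ivS bs s)) : ∃ g ∈ M24, (∀ b ∈ bs, g • X b = X b) ∧ g • s = s' :=
  orb_inv hF h (ivS bs) (fun _ _ h1 s => ivS_smul h1 s) hs hs' e fun a ha a' ha' e1 e2 => by
    rw [ivS_X] at e1 e2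
    exact hd a ha a' ha' (e1.trans e2.symm) (e1 ▸ hQ)

/-- counting in a block -/
theorem ncard_blk {F : Set (Finset GolayPt)} {lo n : ℕ} (hF : X '' bset (ivl lo (lo + n)) = F)
    (hi : Set.InjOn X (bset (ivl lo (lo + n)))) {P : Finset GolayPt → Prop} {p : ℕ → Bool}
    (h : ∀ m < 2 ^ 24, ofMask m ∈ F → (P (ofMask m) ↔ p m = true)) :
    {s | s ∈ F ∧ P s}.ncard = cntN n (fun i => force (colVal S (Nat.add lo i)) p) := by
  have hlt : ∀ i, colVal S i < 2 ^ 24 := fun i => colVal_lt S i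
  rw [cntN_eq, ← Set.ncard_coe_finset,
    ← Set.InjOn.ncard_image (f := fun i => X (lo + i))]
  · congr 1
    ext s
    simp only [Set.mem_ofPred_eq, Set.mem_image, Finset.coe_filter, Finset.mem_range, force_eq]
    constructor
    · rintro ⟨h1, h2⟩
      have h3 := h1
      rw [← hF] at h3
      obtain ⟨i, hi, rfl⟩ := h3
      rw [mem_bset_ivl] at hi
      have e : lo + (i - lo) = i := by omega
      refine ⟨i - lo, ⟨by omega, ?_⟩, by rw [e]⟩
      show p (colVal S (lo + (i - lo))) = true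
      rw [e]
      exact (h _ (hlt i) h1).1 h2
    · rintro ⟨i, ⟨h1, h2⟩, rfl⟩
      have h3 : X (lo + i) ∈ F := hF ▸ ⟨lo + i, mem_bset_ivl.2 (by omega), rfl⟩
      exact ⟨h3, (h _ (hlt _) h3).2 h2⟩
  · intro i hi' j hj e
    simp only [Finset.coe_filter, Finset.mem_range, Set.mem_ofPred_eq] at hi' hj
    have := hi (mem_bset_ivl.2 (by omega)) (mem_bset_ivl.2 (by omega)) e
    omega

/-- the members of the block `B` that contain the set `m` -/
noncomputable def supB (B m : ℕ) : ℕ :=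
  Nat.rec (motive := fun _ => ℕ) B
    (fun p ih => iteB (bit m p) (Nat.land (nthD 0 S p) ih) ih) 24

theorem testBit_supB (B m i : ℕ) :
    (supB B m).testBit i = true ↔ B.testBit i = true ∧ ofMask m ⊆ X i := by
  have key : ∀ n, (Nat.rec (motive := fun _ => ℕ) B
      (fun p ih => iteB (bit m p) (Nat.land (nthD 0 S p) ih) ih) n).testBit i = true ↔
      B.testBit i = true ∧ ∀ p < n, m.testBit p = true → (nthD 0 S p).testBit i = true := by
    intro n
    induction n with
    | zero => simp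
    | succ n ih =>
      show (iteB (bit m n) (nthD 0 S n &&& _) _).testBit i = true ↔ _
      rw [bit_eq, Nat.forall_lt_succ_right]
      cases hb : m.testBit n
      · rw [iteB_false, ih]; simp
      · rw [iteB_true, Nat.testBit_and, Bool.and_eq_true, ih]; simp; tauto
  unfold supB
  rw [key]
  refine and_congr_right fun _ => ⟨fun h p hp => ?_, fun h p hp h1 => ?_⟩
  · exact mem_XS.2 (h _ (idx_lt p) (mem_ofMask.1 hp))
  · have := mem_XS.1 (h ((pt_mem_ofMask hp).2 h1))
    rwa [idx_pt p hp] at this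

/-- the set lies in an octad -/
noncomputable def inOct (m : ℕ) : Bool := Bool.not (Nat.beq (supB BOct m) 0)

theorem inOct_iff (m : ℕ) : (∃ o ∈ octads, ofMask m ⊆ o) ↔ inOct m = true := by
  unfold inOct
  rw [Bool.not_eq_true', ← Bool.not_eq_true, Nat.beq_eq, ← octads_eq]
  constructor
  · rintro ⟨_, ⟨i, hi, rfl⟩, h⟩ e
    have := (testBit_supB BOct m i).2 ⟨hi, h⟩
    rw [e] at this
    simp at this
  · intro h
    obtain ⟨i, hi⟩ := Nat.exists_testBit_of_ne_zero h
    obtain ⟨h1, h2⟩ := (testBit_supB BOct m i).1 hi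
    exact ⟨_, ⟨i, h1, rfl⟩, h2⟩

theorem card_pt_inter (p : GolayPt) (s : Finset GolayPt) :
    (({p} : Finset GolayPt) ∩ s).card = if p ∈ s then 1 else 0 := by
  split_ifs with h
  · rw [Finset.singleton_inter_of_mem h]; rfl
  · rw [Finset.singleton_inter_of_notMem h]; rfl

/-- extend a normalisation of a configuration by one more set -/
theorem std_step {F : Set (Finset GolayPt)} {B : ℕ} (hF : X '' bset B = F)
    (hinv : ∀ g ∈ M24, ∀ y ∈ F, g • y ∈ F) {gens : List (List ℕ)} {bs rs : List ℕ} {r : ℕ}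
    (h : andB (fixB A gens bs) (coverB A gens r rs B) = true) {a : ℕ} (ha : a ∈ bset B)
    (hd : ∀ x ∈ rs, ∀ x' ∈ rs, ivN bs x = ivN bs x' → ivN bs x = ivN bs a → x = x')
    {k : Perm GolayPt} (hk : k ∈ M24) {s : Finset GolayPt} (hs : s ∈ F)
    (e : (bs.map fun b => (k • X b ∩ s).card) = ivN bs a) :
    ∃ k' ∈ M24, (∀ b ∈ bs, k' • X b = k • X b) ∧ k' • X a = s := by
  have e' : ivN bs a = ivS bs (k⁻¹ • s) := by
    rw [← e]
    apply List.map_congr_left
    intro b _
    rw [← card_smul_inter k⁻¹, inv_smul_smul]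
  obtain ⟨g, hg, h1, h2⟩ := orb_iv hF h (fun l => l = ivN bs a) hd (s := X a)
    (hF ▸ ⟨a, ha, rfl⟩) (hinv _ (M24.inv_mem hk) _ hs) (by rw [ivS_X, e']) (ivS_X _ _)
  exact ⟨k * g, M24.mul_mem hk hg, fun b hb => by rw [mul_smul, h1 b hb],
    by rw [mul_smul, h2, smul_inv_smul]⟩

theorem smul_X_pt (k : Perm GolayPt) {i : ℕ} (hi : i < 24) : k • X i = {k (pt i)} := by
  rw [X_pt i hi, smul_singleton']

/-- extend a normalisation of a configuration by one more point -/
theorem std_pt {gens : List (List ℕ)} {bs rs : List ℕ} {r : ℕ}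
    (h : andB (fixB A gens bs) (coverB A gens r rs (ivl 0 24)) = true) {a : ℕ} (ha : a < 24)
    (hd : ∀ x ∈ rs, ∀ x' ∈ rs, ivN bs x = ivN bs x' → ivN bs x = ivN bs a → x = x')
    {k : Perm GolayPt} (hk : k ∈ M24) (p : GolayPt)
    (e : (bs.map fun b => if p ∈ k • X b then 1 else 0) = ivN bs a) :
    ∃ k' ∈ M24, (∀ b ∈ bs, k' • X b = k • X b) ∧ k' (pt a) = p := by
  obtain ⟨k', h1, h2, h3⟩ := std_step pts_eq (fun g _ s hs => by simpa using hs) h
    (mem_bset_ivl.2 ⟨Nat.zero_le _, ha⟩) hd hk (s := {p}) rfl (by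
      rw [← e]
      apply List.map_congr_left
      intro b _
      rw [Finset.inter_comm, card_pt_inter])
  rw [smul_X_pt _ ha, Finset.singleton_inj] at h3
  exact ⟨k', h1, h2, h3⟩

end SB

end Cfsg.Agent.Golay
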